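import Cfsg.Agent.Lib.Chev.Conj

/-!
Additivity, injectivity and the commutator formula for a certified datum.
-/

set_option autoImplicit false

namespace CfsgLib.Chev

open Cfsg.Lie Matrix

/-- All the table checks for a datum. -/
structure Cert (D : ChevalleyDatum) where
  T : Data
  valid : T.valid D = true
  checkN : ∀ i < T.l, T.checkN i = true
  checkConj : ∀ i < T.l, T.checkConj i = true
  checkReflect : ∀ i < T.l, T.checkReflect i = true
  edges : T.checkEdges = true
  base : T.checkBase = true
  commEdges : T.checkCommEdges = true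

theorem range_all_spec {p : ℕ → Bool} {n : ℕ} (h : (List.range n).all p = true) :
    ∀ i < n, p i = true := fun i hi => (List.all_eq_true.1 h) i (List.mem_range.2 hi)

namespace Data

variable {T : Data}

theorem closeMask_induction {ok : ℕ → ℕ → ℕ → Bool} {P : ℕ → Prop} :
    ∀ {es : List (ℕ × ℕ × ℕ)} {m m' : ℕ}, T.closeMask ok es m = some m' →
      (∀ s, bit m s = true → P s) →
      (∀ i a b, (i, a, b) ∈ es → i < T.l → a < T.n → T.piRoot i a = b → ok i a b = true → P a → P b) →
      ∀ s, bit m' s = true → P s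
  | [], m, m', h, hm, _ => by
    simp only [closeMask, Option.some.injEq] at h
    exact h ▸ hm
  | (i, a, b) :: es, m, m', h, hm, step => by
    simp only [closeMask] at h
    cases hcond : Nat.blt i T.l && Nat.blt a T.n && bit m a && Nat.beq (T.piRoot i a) b && ok i a b
    · simp [hcond] at h
    · simp only [hcond, cond_true] at h
      simp only [Bool.and_eq_true, Nat.blt_eq, Nat.beq_eq] at hcond
      obtain ⟨⟨⟨⟨h1, h2⟩, h3⟩, h4⟩, h5⟩ := hcond
      refine closeMask_induction h (fun s hs => ?_)
        fun i' a' b' he => step i' a' b' (List.mem_cons_of_mem _ he)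
      rw [bit_eq_testBit, show Nat.lor m (Nat.pow 2 b) = m ||| 2 ^ b from rfl, Nat.testBit_or,
        Bool.or_eq_true, Nat.testBit_two_pow, ← bit_eq_testBit] at hs
      rcases hs with hs | hs
      · exact hm s hs
      · obtain rfl : b = s := of_decide_eq_true hs
        exact step i a b List.mem_cons_self h1 h2 h4 h5 (hm a h3)

theorem covers_spec {o : Option ℕ} (h : T.covers o = true) :
    ∃ m, o = some m ∧ ∀ s < T.n, bit m s = true := by
  cases o with
  | none => simp [covers] at h
  | some m =>
    simp only [covers, Nat.beq_eq] at h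
    refine ⟨m, rfl, fun s hs => ?_⟩
    rw [h, bit_eq_testBit, show Nat.pow 2 T.n = 2 ^ T.n from rfl, Nat.testBit_two_pow_sub_one]
    simpa using hs

end Data

namespace Cert

variable {D : ChevalleyDatum} (C : Cert D) {F : Type*} [Field F]

theorem hv : C.T.Valid D := Data.valid_spec C.valid

theorem piRoot_spec {i : ℕ} (hi : i < C.T.l) {s : ℕ} (hs : s < C.T.n) :
    C.T.piRoot i s < C.T.n ∧ C.T.piRoot i (C.T.piRoot i s) = s := by
  have := C.checkConj i hi
  simp only [Data.checkConj, Bool.and_eq_true] at this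
  exact Data.checkPerm_spec this.1.1 hs

theorem reflectRoot_eq {i : ℕ} (hi : i < C.T.l) {s : ℕ} (hs : s < C.T.n) :
    D.reflectRoot i s = C.T.piRoot i s := by
  rw [C.hv.reflectRoot_eq hi hs]
  simpa [Data.checkReflect] using range_all_spec (C.checkReflect i hi) s hs

theorem nMat_mul_x {i r : ℕ} (hi : i < C.T.l) (hr : r < C.T.n) (t : F) :
    D.nMat F (D.simple i) 1 * D.x F r t =
      D.x F (C.T.piRoot i r) ((C.T.eta i r : F) * t) * D.nMat F (D.simple i) 1 :=
  Data.nMat_mul_x C.hv hi (C.checkN i hi) (C.checkConj i hi) hr t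

theorem isUnit_nMat {i : ℕ} (hi : i < C.T.l) : IsUnit (D.nMat F (D.simple i) 1) :=
  Data.isUnit_nMat C.hv hi (C.checkN i hi) (C.checkConj i hi)

theorem eta_mul_eta_cast (i s : ℕ) : (C.T.eta i s : F) * C.T.eta i s = 1 := by
  rw [← Int.cast_mul, Data.eta_mul_self, Int.cast_one]

theorem reps_lt {r : ℕ} (hr : r ∈ C.T.reps) : r < C.T.n := by
  have h := C.base
  simp only [Data.checkBase, Bool.and_eq_true, List.all_eq_true] at h
  have := h.1.2 r hr
  simp only [Data.checkAdd, Bool.and_eq_true, Nat.blt_eq] at this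
  exact this.1

/-- Induction over the orbits of the fundamental reflections, starting from the dominant roots. -/
theorem orbit_induction {P : ℕ → Prop} (hbase : ∀ r ∈ C.T.reps, P r)
    (step : ∀ i r, (i, r, C.T.piRoot i r) ∈ C.T.edges → i < C.T.l → r < C.T.n → P r → P (C.T.piRoot i r))
    {r : ℕ} (hr : r < C.T.n) : P r := by
  obtain ⟨m, hm, hall⟩ := Data.covers_spec C.edges
  refine Data.closeMask_induction hm
    (fun s hs => hbase s (bit_baseMask.1 hs)) (fun i a b he hi ha hb _ hP => ?_) r (hall r hr)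
  subst hb
  exact step i a he hi ha hP

theorem x_add {r : ℕ} (hr : r < C.T.n) : ∀ t u : F, D.x F r t * D.x F r u = D.x F r (t + u) := by
  refine C.orbit_induction (P := fun r => ∀ t u : F, D.x F r t * D.x F r u = D.x F r (t + u))
    (fun r hr t u => ?_) (fun i r _ hi hr ih t u => ?_) hr
  · have h := C.base
    simp only [Data.checkBase, Bool.and_eq_true, List.all_eq_true] at h
    exact Data.x_add_of_checkAdd C.hv (h.1.2 r hr) t u
  · have e : ∀ z : F, D.x F (C.T.piRoot i r) z * D.nMat F (D.simple i) 1 =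
        D.nMat F (D.simple i) 1 * D.x F r ((C.T.eta i r : F) * z) := by
      intro z
      rw [C.nMat_mul_x hi hr, ← mul_assoc, C.eta_mul_eta_cast, one_mul]
    apply (C.isUnit_nMat hi).mul_right_cancel
    rw [mul_assoc, e, ← mul_assoc, e, mul_assoc, ih, e, mul_add]

include C in
theorem x_zero (r : ℕ) : D.x F r (0 : F) = 1 := by
  by_cases hr : r < C.T.n
  · refine ext_unitFun fun c _ => ?_
    rw [C.hv.x_mulVec_unitFun hr, Matrix.one_mulVec]
    have : ∀ qs : List (ℕ × ℕ × ℤ), (∀ q ∈ qs, q.2.1 ≠ 0) → evalCol D (0 : F) qs = 0 := by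
      intro qs
      induction qs with
      | nil => simp
      | cons q qs ih =>
        intro h
        simp [zero_pow (h q (by simp)), ih fun q hq => h q (by simp [hq])]
    rw [this, add_zero]
    have hnum : ∀ (es : List (ℕ × ℤ)) (k : ℕ), k ≠ 0 → ∀ q ∈ number k es, q.2.1 ≠ 0 := by
      intro es
      induction es with
      | nil => simp [number]
      | cons e es ih =>
        intro k hk q hq
        simp only [number, List.mem_cons] at hq
        rcases hq with rfl | hq
        · exact hk
        · exact ih _ (by omega) q hq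
    have hcor : ∀ (cs : List ℤ) (k : ℕ), ∀ q ∈ corTerms k cs, q.2.1 ≠ 0 := by
      intro cs
      induction cs with
      | nil => simp [corTerms]
      | cons e es ih =>
        intro k q hq
        simp only [corTerms, List.mem_cons] at hq
        rcases hq with rfl | hq
        · simp
        · exact ih _ q hq
    intro q hq
    simp only [Data.col, Data.colR] at hq
    revert hq
    cases Nat.blt c C.T.n
    · simp only [cond_false, List.mem_singleton]
      rintro rfl
      simp
    · cases Nat.beq c r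
      · cases Nat.beq c (C.T.row r).neg
        · simp only [cond_true, cond_false]
          exact hnum _ 1 (by simp) q
        · simp only [cond_true, cond_false, List.mem_cons]
          rintro (rfl | hq)
          · simp
          · exact hcor _ _ q hq
      · simp
  · have := C.hv.hn
    simp [ChevalleyDatum.x, show ¬ r < D.nroots by omega]

theorem x_mul_x_neg {r : ℕ} (hr : r < C.T.n) (t : F) : D.x F r t * D.x F r (-t) = 1 := by
  rw [C.x_add hr, add_neg_cancel, C.x_zero]

theorem x_eq_one_iff {r : ℕ} (hr : r < C.T.n) (t : F) : D.x F r t = 1 ↔ t = 0 := by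
  refine ⟨fun h => ?_, fun h => by rw [h, C.x_zero]⟩
  have hv := C.hv
  have hn := hv.hn
  have hne := hv.neg_ne r hr
  have h2 := congrFun (congrArg (fun M : Matrix D.Idx D.Idx F => M *ᵥ unitFun D F (C.T.row r).neg) h)
    (Sum.inr ⟨r, hn ▸ hr⟩)
  simp only [Matrix.one_mulVec] at h2
  have hlt := hv.neg_lt r hr
  rw [hv.x_mulVec_unitFun hr, Pi.add_apply, Data.col, Data.colR,
    show Nat.blt (C.T.row r).neg C.T.n = true by rwa [Nat.blt_eq],
    show Nat.beq (C.T.row r).neg r = false by simpa [Bool.eq_false_iff] using hne,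
    show Nat.beq (C.T.row r).neg (C.T.row r).neg = true by simp, cond_true, cond_false, cond_true,
    evalCol_cons, Pi.add_apply, evalCol_corTerms_inr _ _ _ _ hn.ge] at h2
  simpa [unitFun, Ne.symm hne] using h2

include C in
theorem isUnit_x (r : ℕ) (t : F) : IsUnit (D.x F r t) := by
  by_cases hr : r < C.T.n
  · exact IsUnit.of_mul_eq_one _ (C.x_mul_x_neg hr t)
  · have := C.hv.hn
    simp [ChevalleyDatum.x, show ¬ r < D.nroots by omega]

/-- The commutator formula for the pair `(r, s)`. -/
def CommHolds (D : ChevalleyDatum) (F : Type*) [Field F] (r s : ℕ) : Prop :=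
  ∀ t u : F, D.x F s u * D.x F r t = D.x F r t * D.x F s u * D.wordMat F (D.commWord F r s t u)

theorem commHolds_of_check {r s : ℕ} (hr : r < C.T.n) (hs : s < C.T.n)
    (h : C.T.checkCommPair r s = true) : CommHolds D F r s := by
  intro t u
  have := Data.wordMat_eq_of_checkWords C.hv h t u (F := F)
  rw [ChevalleyDatum.commWord, C.hv.commTerms_eq hr hs]
  simp only [evalW, Data.commLetters, List.map_map, List.map_cons, List.map_nil] at this
  simp only [ChevalleyDatum.wordMat, List.map_cons, List.prod_cons, List.map_nil, List.prod_nil,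
    Letter.param, Int.cast_one, one_mul, pow_zero, pow_one, mul_one, ← mul_assoc] at this
  rw [this, mul_assoc (D.x F r t), mul_assoc (D.x F r t), ChevalleyDatum.wordMat]
  congr 2
  simp only [List.map_map]
  refine congrArg List.prod (List.map_congr_left fun c _ => ?_)
  simp [Letter.param, ipow_eq, neg_pow t]
  ring_nf

theorem nMat_mul_wordMat {i : ℕ} (hi : i < C.T.l) : ∀ {w : List (ℕ × F)}, (∀ p ∈ w, p.1 < C.T.n) →
    D.nMat F (D.simple i) 1 * D.wordMat F w =
      D.wordMat F (w.map fun p => (C.T.piRoot i p.1, (C.T.eta i p.1 : F) * p.2)) *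
        D.nMat F (D.simple i) 1
  | [], _ => by simp [ChevalleyDatum.wordMat]
  | p :: w, h => by
    have ih := nMat_mul_wordMat hi (w := w) fun q hq => h q (by simp [hq])
    simp only [ChevalleyDatum.wordMat, List.map_cons, List.prod_cons] at ih ⊢
    rw [← mul_assoc, C.nMat_mul_x hi (h p (by simp)), mul_assoc, ih, mul_assoc]

theorem commFast_lt {r s : ℕ} (hr : r < C.T.n) (hs : s < C.T.n) {c : ℕ × ℤ × ℕ × ℕ}
    (h : c ∈ C.T.commFast r s) : c.1 < C.T.n := by
  simp only [Data.commFast, List.mem_filterMap, List.mem_cons, List.not_mem_nil, or_false,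
    Option.map_eq_some_iff] at h
  obtain ⟨a, ha, k, hk, rfl⟩ := h
  rcases ha with rfl | rfl | rfl | rfl | rfl | rfl | rfl
  · exact C.hv.fastRoot_lt hr hk
  · exact C.hv.fastRoot_lt hr hk
  · exact C.hv.fastRoot_lt hs hk
  · exact C.hv.fastRoot_lt hr hk
  · exact C.hv.fastRoot_lt hs hk
  · obtain ⟨k', hk', hk⟩ := Option.bind_eq_some_iff.1 hk
    exact C.hv.fastRoot_lt (C.hv.fastRoot_lt hr hk') hk
  · obtain ⟨k', hk', hk⟩ := Option.bind_eq_some_iff.1 hk
    exact C.hv.fastRoot_lt (C.hv.fastRoot_lt hs hk') hk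

theorem commHolds_map {i r s : ℕ} (hi : i < C.T.l) (hr : r < C.T.n) (hs : s < C.T.n)
    (hcompat : C.T.commCompat i r s = true) (h : CommHolds D F r s) :
    CommHolds D F (C.T.piRoot i r) (C.T.piRoot i s) := by
  intro t u
  set r' := C.T.piRoot i r
  set s' := C.T.piRoot i s
  have e : ∀ (a : ℕ), a < C.T.n → ∀ z : F, D.x F (C.T.piRoot i a) z * D.nMat F (D.simple i) 1 =
      D.nMat F (D.simple i) 1 * D.x F a ((C.T.eta i a : F) * z) := by
    intro a ha z
    rw [C.nMat_mul_x hi ha, ← mul_assoc, C.eta_mul_eta_cast, one_mul]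
  apply (C.isUnit_nMat (F := F) hi).mul_right_cancel
  simp only [Data.commCompat, decide_eq_true_eq] at hcompat
  rw [ChevalleyDatum.commWord, C.hv.commTerms_eq (C.piRoot_spec hi hr).1 (C.piRoot_spec hi hs).1,
    hcompat]
  have hwl : ∀ p ∈ D.commWord F r s ((C.T.eta i r : F) * t) ((C.T.eta i s : F) * u), p.1 < C.T.n := by
    intro p hp
    rw [ChevalleyDatum.commWord, C.hv.commTerms_eq hr hs, List.mem_map] at hp
    obtain ⟨c, hc, rfl⟩ := hp
    exact C.commFast_lt hr hs hc
  have hword : D.wordMat F (((C.T.commFast r s).map (C.T.mapComm i (C.T.eta i r) (C.T.eta i s))).map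
        fun c => (c.1, (c.2.1 : F) * (-t) ^ c.2.2.1 * u ^ c.2.2.2)) * D.nMat F (D.simple i) 1 =
      D.nMat F (D.simple i) 1 *
        D.wordMat F (D.commWord F r s ((C.T.eta i r : F) * t) ((C.T.eta i s : F) * u)) := by
    rw [C.nMat_mul_wordMat hi hwl, ChevalleyDatum.commWord, C.hv.commTerms_eq hr hs]
    congr 2
    simp only [List.map_map]
    refine List.map_congr_left fun c _ => ?_
    simp [Data.mapComm, ipow_eq]
    ring
  have h' := h ((C.T.eta i r : F) * t) ((C.T.eta i s : F) * u)
  calc D.x F s' u * D.x F r' t * D.nMat F (D.simple i) 1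
      = D.nMat F (D.simple i) 1 *
          (D.x F s ((C.T.eta i s : F) * u) * D.x F r ((C.T.eta i r : F) * t)) := by
        rw [mul_assoc, e r hr, ← mul_assoc, e s hs, mul_assoc]
    _ = D.x F r' t * D.x F s' u * (D.nMat F (D.simple i) 1 *
          D.wordMat F (D.commWord F r s ((C.T.eta i r : F) * t) ((C.T.eta i s : F) * u))) := by
        rw [h', ← mul_assoc, ← mul_assoc, ← e r hr, mul_assoc (D.x F r' t), ← e s hs]
        simp only [mul_assoc, s', r']
    _ = _ := by rw [← hword]; simp only [mul_assoc]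

theorem commFast_K1 (hK : C.T.K ≤ 1) (r s : ℕ) :
    C.T.commFast r s = (C.T.ent r s).map fun q => (q.1, q.2, 1, 1) := by
  have h2 : ∀ a b k, 2 ≤ k → C.T.fastRoot a b k = none := by
    intro a b k hk
    have := C.T.ent_length a b
    simp [Data.fastRoot, List.getElem?_eq_none (show (C.T.ent a b).length ≤ k - 1 by omega)]
  simp only [Data.commFast, h2 _ _ 2 le_rfl, h2 _ _ 3 (by simp), Option.bind_none,
    List.filterMap_cons, List.filterMap_nil, Option.map_none]
  have := C.T.ent_length r s
  rcases he : C.T.ent r s with _ | ⟨q, _ | ⟨q', qs⟩⟩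
  · simp [Data.fastRoot, he]
  · simp [Data.fastRoot, Data.fastM, he]
  · rw [he] at this
    simp at this
    omega

theorem commCompat_K1 (hK : C.T.K ≤ 1) {i r s : ℕ} (hi : i < C.T.l) (hr : r < C.T.n)
    (hs : s < C.T.n) : C.T.commCompat i r s = true := by
  simp only [Data.commCompat, decide_eq_true_eq, C.commFast_K1 hK]
  have h := (Data.conjRow C.hv (C.checkConj i hi) hr).num s hs
  have len1 := C.T.ent_length (C.T.piRoot i r) (C.T.piRoot i s)
  have len2 := C.T.ent_length r s
  rcases he : C.T.ent r s with _ | ⟨q, _ | ⟨q', qs⟩⟩ <;>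
    rcases he' : C.T.ent (C.T.piRoot i r) (C.T.piRoot i s) with _ | ⟨p, _ | ⟨p', ps⟩⟩ <;>
    rw [he] at h len2 <;> rw [he'] at h len1 <;>
    simp [number] at h len1 len2 <;> try omega
  · simp
  · obtain ⟨h1, h2⟩ := h
    simp [Data.mapComm, ipow, h1, h2]
    ring

theorem commCompat_edge {i r s : ℕ} (hi : i < C.T.l) (hr : r < C.T.n) (hs : s < C.T.n)
    (he : C.T.checkCommEdge i r = true) : C.T.commCompat i r s = true := by
  simp only [Data.checkCommEdge, Bool.or_eq_true, Nat.ble_eq, List.all_eq_true] at he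
  rcases he with hK | he
  · exact C.commCompat_K1 hK hi hr hs
  by_cases hm : s ∈ (C.T.row r).moved
  · exact he s hm
  have hv := C.hv
  have hc := Data.conjRow hv (C.checkConj i hi) hr
  have hr' := (C.piRoot_spec hi hr).1
  have hs' := (C.piRoot_spec hi hs).1
  have hm' : C.T.piRoot i s ∉ (C.T.row (C.T.piRoot i r)).moved := fun h => hm ((hc.moved s hs).1 h)
  have key : ∀ a b, a < C.T.n → b < C.T.n → b ∉ (C.T.row a).moved → C.T.commFast a b = [] := by
    intro a b ha hb hab
    have h1 := hv.ent_empty ha hab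
    have h2 := hv.ent_empty hb fun h => hab ((hv.moved_symm ha hb).2 h)
    simp [Data.commFast, Data.fastRoot, h1, h2]
  simp [Data.commCompat, key _ _ hr' hs' hm', key _ _ hr hs hm]

theorem comm {r s : ℕ} (hr : r < C.T.n) (hs : s < C.T.n) (hrs : s ≠ r)
    (hneg : s ≠ (C.T.row r).neg) : CommHolds D F r s := by
  revert s
  refine C.orbit_induction (P := fun r => ∀ {s : ℕ}, s < C.T.n → s ≠ r → s ≠ (C.T.row r).neg →
    CommHolds D F r s) (fun r hr s hs hrs hneg => ?_) (fun i r he hi hr ih s hs hrs hneg => ?_) hr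
  · have h := C.base
    simp only [Data.checkBase, Bool.and_eq_true, decide_eq_true_eq, List.all_eq_true] at h
    obtain ⟨⟨hreps, -⟩, hpairs⟩ := h
    rw [hreps, List.mem_map] at hr
    obtain ⟨e, he, rfl⟩ := hr
    have hp := hpairs e he
    simp only [Data.checkPairs, Bool.and_eq_true, List.all_eq_true, Nat.blt_eq] at hp
    have her : e.1 < C.T.n := C.reps_lt (hreps ▸ List.mem_map.2 ⟨e, he, rfl⟩)
    obtain ⟨m, hm, hall⟩ := Data.covers_spec hp.2
    refine Data.closeMask_induction (P := fun s => s ≠ e.1 → s ≠ (C.T.row e.1).neg → CommHolds D F e.1 s)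
      hm (fun x hx h1 h2 => ?_)
      (fun i a b _ hi ha hb hok ih h1 h2 => ?_) s (hall s hs) hrs hneg
    · rw [bit_baseMask] at hx
      simp only [List.mem_cons, h1, h2, false_or] at hx
      exact C.commHolds_of_check her (hp.1 x hx).1 (hp.1 x hx).2
    · simp only [Bool.and_eq_true, Nat.beq_eq, Bool.or_eq_true, bit_baseMask, List.mem_cons,
        List.not_mem_nil, or_false] at hok
      obtain ⟨hfix, hok⟩ := hok
      have hc := Data.conjRow C.hv (C.checkConj i hi) her
      have hne1 : a ≠ e.1 := fun h => h1 (by rw [← hb, h, hfix])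
      have hne2 : a ≠ (C.T.row e.1).neg := fun h => h2 (by rw [← hb, h, hc.neg, hfix])
      simp only [hne1, hne2, false_or] at hok
      rw [← hfix, ← hb]
      exact C.commHolds_map hi her ha hok (ih hne1 hne2)
  · obtain ⟨hs0, hinv⟩ := C.piRoot_spec hi hs
    have hedge : C.T.checkCommEdge i r = true := by
      simpa using (List.all_eq_true.1 C.commEdges) _ he
    have hc := Data.conjRow C.hv (C.checkConj i hi) hr
    have h1 : C.T.piRoot i s ≠ r := fun h => hrs (by rw [← hinv, h])
    have h2 : C.T.piRoot i s ≠ (C.T.row r).neg := fun h => hneg (by rw [← hinv, h, hc.neg])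
    rw [← hinv]
    exact C.commHolds_map hi hr hs0 (C.commCompat_edge hi hr hs0 hedge) (ih hs0 h1 h2)

end Cert

end CfsgLib.Chev
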