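import Cfsg.Prelude.Def_ChevStructure

/-!
Computable checkers for the Chevalley tables: fast lookup data, their validation against a datum, a
sparse evaluator for words in root elements (monomials in two parameters `t`, `u`), and the checks for
equivariance under the fundamental reflections. All are evaluated by the kernel in the files `Cert*`;
primitive `Nat` functions are used in the hot paths on purpose.
-/

set_option autoImplicit false

namespace CfsgLib.Chev

/-- Fast data of one root `r`: index of `-r`, the `s` with `r + s` a root, their mask, the packed chains,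
coroot coefficients and Cartan integers. -/
structure Row where
  neg : ℕ
  moved : List ℕ
  mask : ℕ
  code : ℕ
  cor : List ℤ
  car : List ℤ
deriving Inhabited

/-- Binary trie on the bits of the index, least significant first. -/
inductive RTree : Type where
  | leaf (R : Row) : RTree
  | node (a b : RTree) : RTree

def RTree.get : RTree → ℕ → Row
  | .leaf R, _ => R
  | .node a b, i => bif Nat.beq (Nat.mod i 2) 0 then a.get (Nat.div i 2) else b.get (Nat.div i 2)

/-- Fast data of a Chevalley datum. `pcode` packs, for each fundamental reflection, the root permutation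
and the signs of the monomial matrix `n_p`; `reps` are dominant roots; `edges` and the lists
in `pairReps` are spanning forests of Weyl orbits. -/
structure Data where
  n : ℕ
  l : ℕ
  K : ℕ
  rows : RTree
  simples : List ℕ
  pcode : List ℕ
  reps : List ℕ
  edges : List (ℕ × ℕ × ℕ)
  pairReps : List (ℕ × List ℕ × List (ℕ × ℕ × ℕ))

def bit (m s : ℕ) : Bool := Nat.beq (Nat.mod (Nat.shiftRight m s) 2) 1

/-- `List.all` by the bare recursor (cheaper in the kernel). -/
noncomputable def allL {α : Type} (f : α → Bool) (l : List α) : Bool :=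
  List.rec true (fun a _ ih => f a && ih) l

def decode : ℕ → ℕ → List (ℕ × ℤ)
  | 0, _ => []
  | k + 1, f => bif Nat.beq (Nat.mod f 4096) 0 then []
      else (Nat.div (Nat.mod f 4096) 16, Int.ofNat (Nat.mod f 16) - 8) :: decode k (Nat.div f 4096)

/-- A monomial `c * t^a * u^b` times the basis vector `row`. -/
structure Term where
  row : ℕ
  a : ℕ
  b : ℕ
  c : ℤ

/-- The root element `x_r(c * t^a * u^b)`. -/
structure Letter where
  r : ℕ
  c : ℤ
  a : ℕ
  b : ℕ

def ipow (c : ℤ) : ℕ → ℤ
  | 0 => 1
  | k + 1 => ipow c k * c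

/-- Number the entries of a list from `k` on. -/
def number : ℕ → List (ℕ × ℤ) → List (ℕ × ℕ × ℤ)
  | _, [] => []
  | k, (u, M) :: es => (u, k, M) :: number (k + 1) es

/-- Number the coroot coefficients. -/
def corTerms : ℕ → List ℤ → List (ℕ × ℕ × ℤ)
  | _, [] => []
  | k, c :: cs => (k, 1, c) :: corTerms (k + 1) cs

def ins (e : Term) : List Term → List Term
  | [] => [e]
  | f :: fs => bif Nat.beq e.row f.row && Nat.beq e.a f.a && Nat.beq e.b f.b
      then ⟨f.row, f.a, f.b, e.c + f.c⟩ :: fs
      else f :: ins e fs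

def merge : List Term → List Term
  | [] => []
  | e :: es => ins e (merge es)

def negTerms : List Term → List Term
  | [] => []
  | e :: es => ⟨e.row, e.a, e.b, -e.c⟩ :: negTerms es

def isZeroInt : ℤ → Bool
  | .ofNat n => Nat.beq n 0
  | .negSucc _ => false

/-- Equality of the values of two sparse vectors, sufficient condition. -/
def sameVec (V W : List Term) : Bool := (merge (V ++ negTerms W)).all fun e => isZeroInt e.c

def unitVec (c : ℕ) : List Term := [⟨c, 0, 0, 1⟩]

/-- The nibble of a structure constant `M`, `0` if out of range. -/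
def nib : ℤ → ℕ
  | .ofNat m => bif Nat.blt m 8 then m + 8 else 0
  | .negSucc m => bif Nat.blt m 7 then 7 - m else 0

/-- The list is encoded by the field `f`. -/
def matchEnt : ℕ → List (ℕ × ℤ) → ℕ → Bool
  | 0, [], _ => true
  | 0, _ :: _, _ => false
  | _ + 1, [], f => Nat.beq (Nat.mod f 4096) 0
  | k + 1, (u, M) :: es, f =>
      Nat.blt 0 (nib M) && Nat.blt u 256 && Nat.beq (Nat.mod f 4096) (u * 16 + nib M) &&
        matchEnt k es (Nat.div f 4096)

/-- Strictly increasing, starting at least at `lb`. -/
def sortedFrom : ℕ → List ℕ → Bool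
  | _, [] => true
  | lb, s :: ss => Nat.ble lb s && sortedFrom (s + 1) ss

namespace Data

variable (T : Data)

def row (r : ℕ) : Row := T.rows.get r

def rowsN : ℕ := T.n + T.l

def field (R : Row) (s : ℕ) : ℕ :=
  Nat.mod (Nat.shiftRight R.code (12 * T.K * s)) (2 ^ (12 * T.K))

def entR (R : Row) (s : ℕ) : List (ℕ × ℤ) := bif bit R.mask s then decode T.K (T.field R s) else []

/-- The chain entry of `(r, s)`. -/
def ent (r s : ℕ) : List (ℕ × ℤ) := T.entR (T.row r) s

def simp' (i : ℕ) : ℕ := T.simples.getD i 0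

/-- The non-identity entries (row, exponent, coefficient) of column `c` of `x_r`. -/
def colR (R : Row) (r c : ℕ) : List (ℕ × ℕ × ℤ) :=
  bif Nat.blt c T.n then
    bif Nat.beq c r then []
    else bif Nat.beq c R.neg then (r, 2, -1) :: corTerms T.n R.cor
    else number 1 (T.entR R c)
  else [(r, 1, -(R.car.getD (c - T.n) 0))]

def col (r c : ℕ) : List (ℕ × ℕ × ℤ) := T.colR (T.row r) r c

def applyTerm (L : Letter) (e : Term) : List Term :=
  e :: (T.col L.r e.row).map fun q =>
    ⟨q.1, e.a + q.2.1 * L.a, e.b + q.2.1 * L.b, e.c * q.2.2 * ipow L.c q.2.1⟩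

def applyX (L : Letter) (V : List Term) : List Term := V.flatMap (T.applyTerm L)

def applyW : List Letter → List Term → List Term
  | [], V => V
  | L :: w, V => T.applyX L (applyW w V)

/-- The two words have the same matrix. -/
def checkWords (W₁ W₂ : List Letter) : Bool :=
  W₁.all (fun L => Nat.blt L.r T.n) && W₂.all (fun L => Nat.blt L.r T.n) &&
    (List.range T.rowsN).all fun c => sameVec (T.applyW W₁ (unitVec c)) (T.applyW W₂ (unitVec c))

/-- The terms of column `c` of `x_r(t + u)`, expanded. -/
def sumTerms (r c : ℕ) : List Term :=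
  ⟨c, 0, 0, 1⟩ :: (T.col r c).flatMap fun q =>
    (List.range (q.2.1 + 1)).map fun k => ⟨q.1, k, q.2.1 - k, q.2.2 * Int.ofNat (Nat.choose q.2.1 k)⟩

/-- `x_r(t) x_r(u) = x_r(t + u)`. -/
def checkAdd (r : ℕ) : Bool :=
  Nat.blt r T.n && (List.range T.rowsN).all fun c =>
    sameVec (T.applyW [⟨r, 1, 1, 0⟩, ⟨r, 1, 0, 1⟩] (unitVec c)) (T.sumTerms r c)

/-! ### Validation -/

def matchRow (R : Row) : List (ℕ × Array (ℕ × ℤ)) → List ℕ → Bool
  | [], [] => true
  | e :: es, s :: ss => Nat.beq e.1 s && matchEnt T.K e.2.toList (T.field R s) && matchRow R es ss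
  | _, _ => false

noncomputable def validMoved (R : Row) (r : ℕ) : Bool :=
  sortedFrom 0 R.moved && Nat.beq R.mask (R.moved.foldr (fun s m => Nat.lor (Nat.pow 2 s) m) 0) &&
  allL (fun s => Nat.blt s T.n && (!Nat.beq s r) && (!Nat.beq s R.neg) && bit (T.row s).mask r) R.moved

noncomputable def validRows : List (Array (ℕ × Array (ℕ × ℤ))) → ℕ → Bool
  | [], r => Nat.beq r T.n
  | row :: rest, r => T.matchRow (T.row r) row.toList (T.row r).moved && T.validMoved (T.row r) r &&
      allL (fun e => allL (fun q => Nat.blt q.1 T.n) e.2.toList) row.toList &&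
      Nat.blt (T.row r).neg T.n && (!Nat.beq (T.row r).neg r) &&
      Nat.beq (T.row r).cor.length T.l && Nat.beq (T.row r).car.length T.l &&
      validRows rest (r + 1)

noncomputable def valid (D : Cfsg.Lie.ChevalleyDatum) : Bool :=
  Nat.beq T.n D.nroots && Nat.beq T.l D.rank && Nat.ble (T.n + T.l) 256 &&
  decide (D.negIdx.toList = (List.range T.n).map fun r => (T.row r).neg) &&
  decide (D.coroot.toList.map Array.toList = (List.range T.n).map fun r => (T.row r).cor) &&
  decide (D.cartanSR.toList.map Array.toList =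
    (List.range T.l).map fun j => (List.range T.n).map fun r => (T.row r).car.getD j 0) &&
  decide (D.simpleIdx.toList = T.simples) && Nat.beq T.simples.length T.l &&
  T.simples.all (fun p => Nat.blt p T.n) &&
  T.validRows D.chain.toList 0

/-! ### Equivariance under the fundamental reflections -/

def pfield (pc s : ℕ) : ℕ := Nat.mod (Nat.shiftRight pc (9 * s)) 512

def pc (i : ℕ) : ℕ := T.pcode.getD i 0

/-- The image of root `s` under the `i`-th fundamental reflection. -/
def piRoot (i s : ℕ) : ℕ := Nat.div (pfield (T.pc i) s) 2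

/-- The sign `η` with `n_p e_s = η e_{w s}`. -/
def eta (i s : ℕ) : ℤ := bif Nat.beq (Nat.mod (pfield (T.pc i) s) 2) 0 then 1 else -1

/-- The column `c` of the monomial matrix of the `i`-th fundamental reflection. -/
def pTerm (i c : ℕ) : List (ℕ × ℤ) :=
  bif Nat.blt c T.n then [(T.piRoot i c, T.eta i c)]
  else bif Nat.blt c T.rowsN then
    [(c, 1), (T.n + i, -((T.row (T.simp' i)).car.getD (c - T.n) 0))]
  else []

def pVec (i c : ℕ) : List Term := (T.pTerm i c).map fun q => ⟨q.1, 0, 0, q.2⟩

def nWordL (i : ℕ) : List Letter :=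
  [⟨T.simp' i, 1, 0, 0⟩, ⟨(T.row (T.simp' i)).neg, -1, 0, 0⟩, ⟨T.simp' i, 1, 0, 0⟩]

/-- `n_p` is the monomial matrix given by `pTerm`. -/
def checkN (i : ℕ) : Bool :=
  (List.range T.rowsN).all fun c => sameVec (T.applyW (T.nWordL i) (unitVec c)) (T.pVec i c)

/-- The chain field `g` is the image of the chain field `f`; `es`, `er` carry the sign bits. -/
noncomputable def checkField (pc es er : ℕ) : ℕ → ℕ → ℕ → ℕ → Bool :=
  fun K => Nat.rec (fun _ _ _ => true)
    (fun _ ih k f g =>
      bif Nat.beq (Nat.mod f 4096) 0 then Nat.beq (Nat.mod g 4096) 0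
      else Nat.blt 0 (Nat.mod f 16) &&
        Nat.beq (Nat.mod g 4096)
          (Nat.add (Nat.mul (Nat.div (pfield pc (Nat.div (Nat.mod f 4096) 16)) 2) 16)
            (bif Nat.beq (Nat.mod (Nat.add (Nat.add es (Nat.mul k er))
                (pfield pc (Nat.div (Nat.mod f 4096) 16))) 2) 0
              then Nat.mod f 16 else Nat.sub 16 (Nat.mod f 16))) &&
        ih (Nat.add k 1) (Nat.div f 4096) (Nat.div g 4096)) K

noncomputable def mapMask (pc : ℕ) (l : List ℕ) : ℕ :=
  List.rec 0 (fun s _ ih => Nat.lor (Nat.pow 2 (Nat.div (pfield pc s) 2)) ih) l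

def wCor (i : ℕ) (cor : List ℤ) : List ℤ :=
  (List.range T.l).map fun j => bif Nat.beq j i
    then cor.getD j 0 -
      ((List.range T.l).map fun k => cor.getD k 0 * (T.row (T.simp' i)).car.getD k 0).sum
    else cor.getD j 0

noncomputable def checkConjRow (i : ℕ) (pc r : ℕ) (R R' : Row) : Bool :=
  allL (fun s => checkField pc (pfield pc s) (pfield pc r) T.K 1 (T.field R s)
    (T.field R' (Nat.div (pfield pc s) 2))) R.moved &&
  Nat.beq (mapMask pc R.moved) R'.mask &&
  Nat.beq (Nat.div (pfield pc R.neg) 2) R'.neg &&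
  Nat.beq (Nat.mod (pfield pc R.neg) 2) (Nat.mod (pfield pc r) 2) &&
  decide (R'.cor = T.wCor i R.cor) &&
  decide (R.car = (List.range T.l).map fun j =>
    R'.car.getD j 0 - (T.row (T.simp' i)).car.getD j 0 * R'.car.getD i 0)

noncomputable def checkPerm (i : ℕ) : Bool :=
  (List.range T.n).all fun s => Nat.blt (T.piRoot i s) T.n && Nat.beq (T.piRoot i (T.piRoot i s)) s

noncomputable def checkConj (i : ℕ) : Bool :=
  T.checkPerm i && decide ((T.row (T.simp' i)).car.getD i 0 = 2) &&
  (List.range T.n).all fun r => T.checkConjRow i (T.pc i) r (T.row r) (T.row (T.piRoot i r))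

def fastRoot (r s k : ℕ) : Option ℕ := ((T.ent r s)[k - 1]?).map Prod.fst

def fastM (r s k : ℕ) : ℤ := (((T.ent r s)[k - 1]?).map Prod.snd).getD 0

def fastReflect (i s : ℕ) : ℕ :=
  let p := T.simp' i
  let A := (T.row s).car.getD i 0
  if s = p then (T.row p).neg
  else if s = (T.row p).neg then p
  else if 0 < A then (T.fastRoot (T.row p).neg s A.toNat).getD s
  else if A < 0 then (T.fastRoot p s (-A).toNat).getD s
  else s

def checkReflect (i : ℕ) : Bool :=
  (List.range T.n).all fun s => Nat.beq (T.fastReflect i s) (T.piRoot i s)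

/-! ### Commutator terms and orbits -/

/-- `commTerms`, read off the fast tables. -/
def commFast (r s : ℕ) : List (ℕ × ℤ × ℕ × ℕ) :=
  let rs := T.fastRoot r s 1
  let cands : List (Option ℕ × ℤ × ℕ × ℕ) :=
    [ (T.fastRoot r s 1, T.fastM r s 1, 1, 1),
      (T.fastRoot r s 2, T.fastM r s 2, 2, 1),
      (T.fastRoot s r 2, T.fastM s r 2, 1, 2),
      (T.fastRoot r s 3, T.fastM r s 3, 3, 1),
      (T.fastRoot s r 3, - T.fastM s r 3, 1, 3),
      ((T.fastRoot r s 3).bind fun k => T.fastRoot k s 1, (rs.map fun k => T.fastM k r 2 / 3).getD 0, 3, 2),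
      ((T.fastRoot s r 3).bind fun k => T.fastRoot k r 1, (rs.map fun k => -2 * T.fastM k s 2 / 3).getD 0, 2, 3) ]
  cands.filterMap fun c => c.1.map fun k => (k, c.2)

/-- Image of a commutator term under the `i`-th reflection, `x_r(t)`, `x_s(u)` transported. -/
def mapComm (i : ℕ) (ηr ηs : ℤ) (c : ℕ × ℤ × ℕ × ℕ) : ℕ × ℤ × ℕ × ℕ :=
  (T.piRoot i c.1, T.eta i c.1 * c.2.1 * ipow ηr c.2.2.1 * ipow ηs c.2.2.2, c.2.2.1, c.2.2.2)

/-- The commutator terms of `(w r, w s)` are the images of those of `(r, s)`. -/
def commCompat (i r s : ℕ) : Bool :=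
  decide (T.commFast (T.piRoot i r) (T.piRoot i s) = (T.commFast r s).map (T.mapComm i (T.eta i r) (T.eta i s)))

/-- Compatibility along the edge `(i, r)` for all `s` with a sum (checked directly unless all chains
have length one). -/
def checkCommEdge (i r : ℕ) : Bool :=
  Nat.ble T.K 1 || (T.row r).moved.all fun s => T.commCompat i r s

def commLetters (r s : ℕ) : List Letter :=
  (T.commFast r s).map fun c => ⟨c.1, c.2.1 * ipow (-1) c.2.2.1, c.2.2.1, c.2.2.2⟩

/-- The commutator formula for `(r, s)`. -/
def checkCommPair (r s : ℕ) : Bool :=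
  T.checkWords [⟨s, 1, 0, 1⟩, ⟨r, 1, 1, 0⟩] (⟨r, 1, 1, 0⟩ :: ⟨s, 1, 0, 1⟩ :: T.commLetters r s)

/-- Close a mask under a list of edges, whose sources must already be present. -/
def closeMask (i_ok : ℕ → ℕ → ℕ → Bool) : List (ℕ × ℕ × ℕ) → ℕ → Option ℕ
  | [], m => some m
  | (i, a, b) :: es, m =>
      bif Nat.blt i T.l && Nat.blt a T.n && bit m a && Nat.beq (T.piRoot i a) b && i_ok i a b
      then closeMask i_ok es (Nat.lor m (Nat.pow 2 b)) else none

def baseMask (l : List ℕ) : ℕ := l.foldr (fun s m => Nat.lor (Nat.pow 2 s) m) 0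

def covers (m : Option ℕ) : Bool :=
  match m with
  | some m => Nat.beq m (Nat.pow 2 T.n - 1)
  | none => false

/-- All roots are reached from the dominant ones. -/
def checkEdges : Bool :=
  T.covers (T.closeMask (fun _ _ _ => true) T.edges (baseMask T.reps))

def checkCommEdges : Bool := T.edges.all fun e => T.checkCommEdge e.1 e.2.1

/-- For a dominant `r` every `s ≠ ±r` is reached from the representatives by the stabiliser. -/
def checkPairs (e : ℕ × List ℕ × List (ℕ × ℕ × ℕ)) : Bool :=
  e.2.1.all (fun s => Nat.blt s T.n && T.checkCommPair e.1 s) &&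
  T.covers (T.closeMask
    (fun i a _ => Nat.beq (T.piRoot i e.1) e.1 && (bit (baseMask [e.1, (T.row e.1).neg]) a || T.commCompat i e.1 a))
    e.2.2 (baseMask (e.1 :: (T.row e.1).neg :: e.2.1)))

def checkBase : Bool :=
  decide (T.reps = T.pairReps.map Prod.fst) && T.reps.all T.checkAdd && T.pairReps.all T.checkPairs

end Data

end CfsgLib.Chev
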