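import Cfsg.Prelude.Def_ChevB2
import Cfsg.Agent.Lib.Chev.Engine

/-! Fast lookup tables (generated from the datum; checked against it in the Cert file). -/
set_option autoImplicit false

namespace CfsgLib.Chev.B2

def row0 : Row := ⟨7, [5, 6], 0x60, 0x27000019000000000000000000000000000000, [-1, -1], [-2, 0]⟩
def row1 : Row := ⟨6, [2, 4, 5, 7], 0xb4, 0x3905700000000003600902900000000000a000000000000, [-1, -2], [0, -1]⟩
def row2 : Row := ⟨5, [1, 3, 6, 7], 0xca, 0x47069000046000000000000007019000000000006000000, [-1, 0], [-2, 1]⟩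
def row3 : Row := ⟨4, [2, 6], 0x44, 0x59000000000000000000000017000000000000, [0, -1], [2, -2]⟩
def row4 : Row := ⟨3, [1, 5], 0x22, 0x69000000000000000000000027000000, [0, 1], [-2, 2]⟩
def row5 : Row := ⟨2, [0, 1, 4, 6], 0x53, 0x7a00000007706700000000000000003a037017, [1, 0], [2, -1]⟩
def row6 : Row := ⟨1, [0, 2, 3, 5], 0x2d, 0x7600000007905700004a000000049029, [1, 2], [0, 1]⟩
def row7 : Row := ⟨0, [1, 2], 0x6, 0x67000059000000, [1, 1], [2, 0]⟩

/-- The fast tables of the datum. -/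
def data : Data where
  n := 8
  l := 2
  K := 2
  rows := (.node (.node (.node (.leaf row0) (.leaf row4)) (.node (.leaf row2) (.leaf row6))) (.node (.node (.leaf row1) (.leaf row5)) (.node (.leaf row3) (.leaf row7))))
  simples := [5, 4]
  pcode := [0x48340a0f0082c0607, 0x702c1807048080a00]
  reps := [6, 7]
  edges := [(1, 6, 5), (0, 5, 2), (1, 2, 1), (0, 7, 4), (1, 4, 3), (0, 3, 0)]
  pairReps := [(6, [0, 2, 4], [(0, 0, 3), (0, 2, 5), (0, 4, 7)]), (7, [1, 3, 5], [(1, 1, 2), (1, 3, 4), (1, 5, 6)])]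

end CfsgLib.Chev.B2
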