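import Cfsg.Agent.Lib.Chev.Comm
import Cfsg.Agent.Lib.Chev.DataE7
import Cfsg.Prelude.Def_ChevE7

/-! Kernel checks of the equivariance of the E7 tables. -/
set_option autoImplicit false

namespace CfsgLib.Chev.E7

theorem checkConj3 : data.checkConj 3 = true := by decide +kernel
theorem checkN3 : data.checkN 3 = true := by decide +kernel
theorem checkConj4 : data.checkConj 4 = true := by decide +kernel
theorem checkN4 : data.checkN 4 = true := by decide +kernel
theorem checkConj5 : data.checkConj 5 = true := by decide +kernel
theorem checkN5 : data.checkN 5 = true := by decide +kernel
theorem checkConj6 : data.checkConj 6 = true := by decide +kernel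
theorem checkN6 : data.checkN 6 = true := by decide +kernel

end CfsgLib.Chev.E7
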