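import Cfsg.Agent.Lib.Chev.ConjF4
import Cfsg.Agent.Lib.Chev.Comm
import Cfsg.Agent.Lib.Chev.DataF4
import Cfsg.Prelude.Def_ChevF4

/-! The certificate for the F4 tables. -/
set_option autoImplicit false

namespace CfsgLib.Chev.F4

theorem valid : data.valid Cfsg.Lie.chevF4 = true := by decide +kernel

theorem checkReflect : ((List.range 4).all fun i => data.checkReflect i) = true := by decide +kernel

theorem checkEdges : data.checkEdges = true := by decide +kernel

theorem checkBase : data.checkBase = true := by decide +kernel

theorem checkCommEdges : data.checkCommEdges = true := by decide +kernel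

/-- The certified tables. -/
def cert : Cert Cfsg.Lie.chevF4 where
  T := data
  valid := valid
  checkN := fun i hi => match i, hi with
    | 0, _ => checkN0
    | 1, _ => checkN1
    | 2, _ => checkN2
    | 3, _ => checkN3
    | k + 4, hi => absurd (show k + 4 < 4 from hi) (by omega)
  checkConj := fun i hi => match i, hi with
    | 0, _ => checkConj0
    | 1, _ => checkConj1
    | 2, _ => checkConj2
    | 3, _ => checkConj3
    | k + 4, hi => absurd (show k + 4 < 4 from hi) (by omega)
  checkReflect := range_all_spec checkReflect
  edges := checkEdges
  base := checkBase
  commEdges := checkCommEdges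

end CfsgLib.Chev.F4
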