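import Cfsg.Prelude.Def_ChevG2
import Cfsg.Agent.Lib.Chev.Engine

/-! Fast lookup tables (generated from the datum; checked against it in the Cert file). -/
set_option autoImplicit false

namespace CfsgLib.Chev.G2

def row0 : Row := ⟨11, [6, 8, 9, 10], 0x740, 0x57000000037000000029000000000000000019000000000000000000000000000000000000000000000000000000, [-1, -2], [0, -1]⟩
def row1 : Row := ⟨10, [5, 7, 9, 11], 0xaa0, 0x67000000000000000047000000000000000029000000000000000009000000000000000000000000000000000000000000000, [-1, -1], [-3, 1]⟩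
def row2 : Row := ⟨9, [3, 4, 7, 8, 10, 11], 0xd98, 0x1704708700903907700000000000001b04a00000503600000000000000000000000001b00000000b000000000000000000000000000, [-2, -3], [-1, 0]⟩
def row3 : Row := ⟨8, [2, 4, 6, 7, 9, 11], 0xad4, 0x5707909900000000000005507a00000000000000005500902704900000000000000b026000000000000000005000000000000000000, [-1, -3], [1, -1]⟩
def row4 : Row := ⟨7, [2, 3, 5, 8, 9, 10], 0x72c, 0x6908709900006b08600000006500000000000000000001702903900000000000001502a000000015000000000000000000, [-1, 0], [-2, 1]⟩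
def row5 : Row := ⟨6, [1, 4, 8, 11], 0x912, 0xa9000000000000000000000000079000000000000000000000000000000000037000000000000000000000000007000000000, [0, -1], [3, -2]⟩
def row6 : Row := ⟨5, [0, 3, 7, 10], 0x489, 0xb9000000000000000000000000089000000000000000000000000000000000047000000000000000000000000017, [0, 1], [-3, 2]⟩
def row7 : Row := ⟨4, [1, 2, 3, 6, 8, 9], 0x34e, 0xab0000a50960000000000a909908700000000000000000000000005b00005b03a057037027000000000, [1, 0], [2, -1]⟩
def row8 : Row := ⟨3, [0, 2, 4, 5, 7, 9], 0x2b5, 0xbb0000000000000bb09a0000000000b709707700000006b000000000000065046000000000069049027, [1, 3], [-1, 1]⟩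
def row9 : Row := ⟨2, [0, 1, 3, 4, 7, 8], 0x19b, 0xb50000000a50000000000000000000000b508a0000ab0760000000000b70890490a9077039, [2, 3], [1, 0]⟩
def row10 : Row := ⟨1, [0, 2, 4, 6], 0x55, 0xb7000000000000000097000000000000000079000000000000000059, [1, 1], [3, -1]⟩
def row11 : Row := ⟨0, [1, 2, 3, 5], 0x2e, 0xa7000000000000000097000000089000000069000000000, [1, 2], [0, 1]⟩

/-- The fast tables of the datum. -/
def data : Data where
  n := 12
  l := 2
  K := 3
  rows := (.node (.node (.node (.node (.leaf row0) (.leaf row8)) (.leaf row4)) (.node (.node (.leaf row2) (.leaf row10)) (.leaf row6))) (.node (.node (.node (.leaf row1) (.leaf row9)) (.leaf row5)) (.node (.node (.leaf row3) (.leaf row11)) (.leaf row7))))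
  simples := [7, 6]
  pcode := [0xb034221204850040f0201c1600, 0xa858240f0802c1a06048100003]
  reps := [9, 11]
  edges := [(0, 9, 8), (1, 8, 7), (0, 7, 4), (1, 4, 3), (0, 3, 2), (1, 11, 10), (0, 10, 6), (1, 6, 5), (0, 5, 1), (1, 1, 0)]
  pairReps := [(9, [0, 3, 5, 7, 10], [(1, 0, 1), (1, 3, 4), (1, 5, 6), (1, 7, 8), (1, 10, 11)]), (11, [1, 2, 4, 6, 8], [(0, 1, 5), (0, 2, 3), (0, 4, 7), (0, 6, 10), (0, 8, 9)])]

end CfsgLib.Chev.G2
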