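import Cfsg.Agent.Lib.Chev.CertG2
import Cfsg.Agent.Lib.Chev.CertB2
import Cfsg.Agent.Lib.Chev.CertD4
import Cfsg.Agent.Lib.Chev.CertF4
import Cfsg.Agent.Lib.Chev.CertE6
import Cfsg.Agent.Lib.Chev.CertE7
import Cfsg.Agent.Lib.Chev.CertE8

/-!
Root-element identities of the tabulated Chevalley data.
-/

set_option autoImplicit false

namespace CfsgLib.Chev

open Cfsg.Lie

/-- The seven tabulated data. -/
abbrev tabulated : List ChevalleyDatum := [chevG2, chevB2, chevD4, chevF4, chevE6, chevE7, chevE8]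

/-- The certificate of a tabulated datum. -/
theorem exists_cert {D : ChevalleyDatum} (hD : D ∈ tabulated) : Nonempty (Cert D) := by
  simp only [tabulated, List.mem_cons, List.not_mem_nil, or_false] at hD
  rcases hD with rfl | rfl | rfl | rfl | rfl | rfl | rfl
  exacts [⟨G2.cert⟩, ⟨B2.cert⟩, ⟨D4.cert⟩, ⟨F4.cert⟩, ⟨E6.cert⟩, ⟨E7.cert⟩, ⟨E8.cert⟩]

variable {D : ChevalleyDatum} {F : Type*} [Field F]

theorem x_add (hD : D ∈ tabulated) {r : ℕ} (hr : r < D.nroots) (t u : F) :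
    D.x F r t * D.x F r u = D.x F r (t + u) := by
  obtain ⟨C⟩ := exists_cert hD
  exact C.x_add (C.hv.hn ▸ hr) t u

theorem x_zero (hD : D ∈ tabulated) (r : ℕ) : D.x F r (0 : F) = 1 := by
  obtain ⟨C⟩ := exists_cert hD
  exact C.x_zero r

theorem x_mul_x_neg (hD : D ∈ tabulated) {r : ℕ} (hr : r < D.nroots) (t : F) :
    D.x F r t * D.x F r (-t) = 1 := by
  rw [x_add hD hr, add_neg_cancel, x_zero hD]

theorem x_eq_one_iff (hD : D ∈ tabulated) {r : ℕ} (hr : r < D.nroots) (t : F) :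
    D.x F r t = 1 ↔ t = 0 := by
  obtain ⟨C⟩ := exists_cert hD
  exact C.x_eq_one_iff (C.hv.hn ▸ hr) t

theorem isUnit_x (hD : D ∈ tabulated) (r : ℕ) (t : F) : IsUnit (D.x F r t) := by
  obtain ⟨C⟩ := exists_cert hD
  exact C.isUnit_x r t

/-- Chevalley's commutator formula. -/
theorem comm (hD : D ∈ tabulated) {r s : ℕ} (hr : r < D.nroots) (hs : s < D.nroots) (hrs : s ≠ r)
    (hneg : s ≠ D.neg r) (t u : F) :
    D.x F s u * D.x F r t = D.x F r t * D.x F s u * D.wordMat F (D.commWord F r s t u) := by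
  obtain ⟨C⟩ := exists_cert hD
  have hr' : r < C.T.n := C.hv.hn ▸ hr
  exact C.comm hr' (C.hv.hn ▸ hs) hrs (by rw [C.hv.neg_eq r hr']; exact hneg) t u

/-- `n_p x_s(t) = x_{w s}(η t) n_p` with `η = ±1`. -/
theorem nMat_mul_x (hD : D ∈ tabulated) {i s : ℕ} (hi : i < D.rank) (hs : s < D.nroots) :
    ∃ η : ℤ, (η = 1 ∨ η = -1) ∧ ∀ t : F, D.nMat F (D.simple i) 1 * D.x F s t =
      D.x F (D.reflectRoot i s) ((η : F) * t) * D.nMat F (D.simple i) 1 := by
  obtain ⟨C⟩ := exists_cert hD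
  have hi' : i < C.T.l := C.hv.hl ▸ hi
  have hs' : s < C.T.n := C.hv.hn ▸ hs
  exact ⟨C.T.eta i s, C.T.eta_eq i s, fun t => by
    rw [C.reflectRoot_eq hi' hs', C.nMat_mul_x hi' hs']⟩

theorem isUnit_nMat (hD : D ∈ tabulated) {i : ℕ} (hi : i < D.rank) :
    IsUnit (D.nMat F (D.simple i) 1) := by
  obtain ⟨C⟩ := exists_cert hD
  exact C.isUnit_nMat (C.hv.hl ▸ hi)

end CfsgLib.Chev
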