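import Cfsg.Agent.Lib.Chev.Equiv

/-!
`n_p x_r(t) = x_{w r}(η t) n_p` for every root `r` and every fundamental root `p`.
-/

set_option autoImplicit false

namespace CfsgLib.Chev

open Cfsg.Lie Matrix

variable {D : ChevalleyDatum} {F : Type*} [Field F] {T : Data}

namespace Data

theorem applyX_single (T : Data) (L : Letter) (e : Term) : T.applyX L [e] = T.applyTerm L e := by
  simp [applyX]

theorem getD_wCor (T : Data) (i : ℕ) (cor : List ℤ) {j : ℕ} (hj : j < T.l) :
    (T.wCor i cor).getD j 0 = if j = i
      then cor.getD j 0 -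
        ((List.range T.l).map fun k => cor.getD k 0 * (T.row (T.simp' i)).car.getD k 0).sum
      else cor.getD j 0 := by
  rw [wCor, getD_map_range _ _ _ hj]
  by_cases h : j = i
  · simp [h]
  · simp [h, show Nat.beq j i = false by simpa [Bool.eq_false_iff] using h]

variable (hv : T.Valid D)

include hv in
theorem evalV_applyP_cor (i : ℕ) (cor : List ℤ) (hlen : cor.length = T.l) (hi : i < T.l) (t u : F)
    (a b : ℕ) (c : ℤ) (j : D.Idx) :
    evalV D t u (T.applyP i ((corTerms T.n cor).map fun q => (⟨q.1, a, b, c * q.2.2⟩ : Term))) j =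
      ((c : F) * t ^ a * u ^ b) * evalCol D 1 (corTerms T.n (T.wCor i cor)) j := by
  -- the sum over the coroot coefficients, as a function of the starting index
  have key : ∀ (cs : List ℤ) (k : ℕ), k + cs.length = T.l →
      evalV D t u (T.applyP i ((corTerms (T.n + k) cs).map fun q => (⟨q.1, a, b, c * q.2.2⟩ : Term))) j =
        ((c : F) * t ^ a * u ^ b) * (evalCol D 1 (corTerms (T.n + k) cs) j -
          (((List.range cs.length).map fun m =>
            cs.getD m 0 * (T.row (T.simp' i)).car.getD (k + m) 0).sum : ℤ) * unitFun D F (T.n + i) j) := by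
    intro cs
    induction cs with
    | nil => intro k _; simp [corTerms, applyP]
    | cons x cs ih =>
      intro k hk
      simp only [List.length_cons] at hk
      have := ih (k + 1) (by omega)
      simp only [applyP] at this ⊢
      rw [show T.n + (k + 1) = T.n + k + 1 by omega] at this
      simp only [corTerms, List.map_cons, List.flatMap_cons, evalV_append, Pi.add_apply, this,
        pTerm_cor (T := T) (i := i) (show k < T.l by omega)]
      simp only [List.map_cons, List.map_nil, evalV_cons, evalV_nil, add_zero, Pi.add_apply,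
        Pi.smul_apply, smul_eq_mul, evalCol_cons, List.length_cons, List.range_succ_eq_map,
        List.sum_cons, List.map_map]
      simp [Function.comp_def, Nat.add_left_comm, Nat.add_comm 1]
      ring
  have h0 := key cor 0 (by simpa using hlen)
  rw [Nat.add_zero] at h0
  rw [h0]
  congr 1
  rcases j with j | s
  · rw [evalCol_corTerms_inl, evalCol_corTerms_inl]
    have hn := hv.hn
    have hj : j.val < T.l := hv.hl.symm ▸ j.isLt
    simp only [hn, Nat.le_add_right, if_true, Nat.add_sub_cancel_left, getD_wCor T i cor hj, mul_one,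
      unitFun, idxCode_inl, Nat.add_left_cancel_iff, hlen, Nat.zero_add]
    by_cases h : j.val = i
    · simp [h]
    · simp [h]
  · rw [evalCol_corTerms_inr _ _ _ _ hv.hn.ge, evalCol_corTerms_inr _ _ _ _ hv.hn.ge]
    have := hv.hn
    simp [unitFun, show s.val ≠ T.n + i by omega]

include hv in
theorem evalV_conj {i r : ℕ} (hi : i < T.l) (hr : r < T.n) (h : T.ConjRow i r) (t u : F)
    {c : ℕ} (hc : c < T.rowsN) :
    evalV D t u (T.applyP i (T.applyX ⟨r, 1, 1, 0⟩ (unitVec c))) =
      evalV D t u (T.applyX ⟨T.piRoot i r, T.eta i r, 1, 0⟩ (T.applyP i (unitVec c))) := by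
  set r' := T.piRoot i r with hr'def
  set η := T.eta i r with hηdef
  have hηη : (η : F) * η = 1 := by rw [← Int.cast_mul, hηdef, eta_mul_self, Int.cast_one]
  have hr'' : r' < T.n := h.hr'
  by_cases hcn : c < T.n
  swap
  · -- a fundamental coroot
    obtain ⟨j, rfl⟩ : ∃ j, c = T.n + j := ⟨c - T.n, by omega⟩
    have hj : j < T.l := by simp only [rowsN] at hc; omega
    have hcol : ∀ (s m : ℕ), T.col s (T.n + m) = [(s, 1, -((T.row s).car.getD m 0))] := by
      intro s m
      have : Nat.blt (T.n + m) T.n = false := by rw [Bool.eq_false_iff, ne_eq, Nat.blt_eq]; omega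
      simp [col, colR, this]
    have hcar := h.car j hj
    simp only [List.getD_eq_getElem?_getD] at hcar
    rw [← hr'def] at hcar
    simp [applyP, applyX, applyTerm, unitVec, hcol, pTerm_cor hj, pTerm_root hr, ← hr'def, ← hηdef,
      ipow, hcar]
    funext x
    simp
    ring
  -- a root
  obtain ⟨hc', -⟩ := h.inv c hcn
  have hblt : Nat.blt c T.n = true := by rwa [Nat.blt_eq]
  have hblt' : Nat.blt (T.piRoot i c) T.n = true := by rwa [Nat.blt_eq]
  have hneg := hv.neg_lt r hr
  have inj : ∀ {a b : ℕ}, a < T.n → b < T.n → T.piRoot i a = T.piRoot i b → a = b := fun ha hb e => by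
    rw [← (h.inv _ ha).2, e, (h.inv _ hb).2]
  by_cases h1 : c = r
  · subst h1
    simp [applyP, applyX, applyTerm, unitVec, col, colR, hblt, hblt', pTerm_root hcn,
      ← hr'def, show Nat.blt r' T.n = true from hblt']
  have hb1 : Nat.beq c r = false := by simpa [Bool.eq_false_iff] using h1
  have hb1' : Nat.beq (T.piRoot i c) r' = false := by
    simpa [Bool.eq_false_iff] using fun e => h1 (inj hcn hr e)
  by_cases h2 : c = (T.row r).neg
  · have hb2 : Nat.beq c (T.row r).neg = true := by simp [h2]
    have hb2' : Nat.beq (T.piRoot i c) (T.row r').neg = true := by simp [h2, h.neg, hr'def]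
    have hsgn : T.eta i c = η := by rw [h2, h.eta_neg]
    have e1 : T.applyX ⟨r, 1, 1, 0⟩ (unitVec c) =
        ⟨c, 0, 0, 1⟩ :: ⟨r, 2, 0, -1⟩ ::
          (corTerms T.n (T.row r).cor).map fun q => (⟨q.1, 1, 0, 1 * q.2.2⟩ : Term) := by
      have h2' : ∀ (k : ℕ) (cs : List ℤ), ∀ q ∈ corTerms k cs, q.2.1 = 1 := by
        intro k cs
        induction cs generalizing k with
        | nil => simp [corTerms]
        | cons x xs ih =>
          intro q hq
          simp only [corTerms, List.mem_cons] at hq
          rcases hq with rfl | hq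
          · rfl
          · exact ih _ q hq
      rw [unitVec, applyX_single, applyTerm]
      simp only [col, colR, hblt, hb1, hb2, cond_true, cond_false, List.map_cons]
      refine congrArg₂ List.cons rfl (congrArg₂ List.cons (by simp [ipow]) ?_)
      refine List.map_congr_left fun q hq => ?_
      simp [h2' _ _ q hq, ipow]
    funext x
    rw [e1]
    have e2 : ∀ (w : List Term) (e : Term), T.applyP i (e :: w) = T.applyP i [e] ++ T.applyP i w := by
      simp [applyP]
    rw [e2, evalV_append, e2 _ ⟨r, 2, 0, -1⟩, evalV_append, Pi.add_apply, Pi.add_apply,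
      evalV_applyP_cor hv i _ (hv.cor_len r hr) hi t u 1 0 1 x]
    have e3 : T.applyP i (unitVec c) = [⟨T.piRoot i c, 0, 0, η⟩] := by
      simp [applyP, unitVec, pTerm_root hcn, hsgn]
    rw [e3, applyX_single, applyTerm, evalV_cons, evalV_map_col]
    simp only [col, colR, hblt', hb1', hb2', cond_true, cond_false, ← h.cor, ← hr'def]
    rw [evalCol_cons]
    have hscale : ∀ (τ : F), evalCol D τ (corTerms T.n (T.row r').cor) x =
        τ * evalCol D 1 (corTerms T.n (T.row r').cor) x := by
      intro τ
      generalize (T.row r').cor = cs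
      generalize T.n = k
      induction cs generalizing k with
      | nil => simp [corTerms]
      | cons y ys ih => simp [corTerms, ih (k + 1)]; ring
    simp [applyP, pTerm_root hcn, pTerm_root hr, ← hr'def, ← hηdef, hsgn, Letter.param]
    rw [hscale ((η : F) * t)]
    linear_combination (-(t * evalCol D 1 (corTerms T.n (T.row r').cor) x) +
      (η : F) * t ^ 2 * unitFun D F r' x) * hηη
  -- a root in general position
  have hb2 : Nat.beq c (T.row r).neg = false := by simpa [Bool.eq_false_iff] using h2
  have hb2' : Nat.beq (T.piRoot i c) (T.row r').neg = false := by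
    simpa [Bool.eq_false_iff] using fun e => h2 (inj hcn hneg (e.trans h.neg.symm))
  have hnum := h.num c hcn
  rw [← hr'def] at hnum
  have hlt : ∀ q ∈ number 1 (T.ent r c), q.1 < T.n := by
    have : ∀ (es : List (ℕ × ℤ)) (k : ℕ), (∀ q ∈ es, q.1 < T.n) → ∀ q ∈ number k es, q.1 < T.n := by
      intro es
      induction es with
      | nil => simp [number]
      | cons e es ih =>
        intro k he q hq
        simp only [number, List.mem_cons] at hq
        rcases hq with rfl | hq
        · exact he e (by simp)
        · exact ih _ (fun q hq => he q (by simp [hq])) q hq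
    exact this _ 1 (hv.ent_lt r hr c)
  have hcolr : T.col r c = number 1 (T.ent r c) := by
    simp [col, colR, hblt, hb1, hb2, ent]
  have hcolr' : T.col r' (T.piRoot i c) = number 1 (T.ent r' (T.piRoot i c)) := by
    simp [col, colR, hblt', hb1', hb2', ent]
  have eL : T.applyP i (T.applyX ⟨r, 1, 1, 0⟩ (unitVec c)) =
      (⟨T.piRoot i c, 0, 0, T.eta i c⟩ : Term) :: (number 1 (T.ent r c)).map fun q =>
        ⟨T.piRoot i q.1, q.2.1, 0, q.2.2 * T.eta i q.1⟩ := by
    rw [unitVec, applyX_single, applyTerm, hcolr, applyP, List.flatMap_cons, pTerm_root hcn,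
      List.flatMap_map, List.map_cons, List.map_nil]
    simp only [one_mul]
    rw [List.singleton_append]
    congr 1
    rw [List.map_eq_flatMap]
    refine List.flatMap_congr fun q hq => ?_
    rw [pTerm_root (hlt q hq)]
    simp [ipow_eq]
  have eR : T.applyX ⟨r', η, 1, 0⟩ (T.applyP i (unitVec c)) =
      (⟨T.piRoot i c, 0, 0, T.eta i c⟩ : Term) :: (number 1 (T.ent r c)).map fun q =>
        ⟨T.piRoot i q.1, q.2.1, 0,
          T.eta i c * (T.eta i c * T.eta i r ^ q.2.1 * T.eta i q.1 * q.2.2) * ipow η q.2.1⟩ := by
    simp only [applyP, unitVec, List.flatMap_cons, List.flatMap_nil, List.append_nil,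
      pTerm_root hcn, List.map_cons, List.map_nil, one_mul]
    rw [applyX_single, applyTerm]
    simp only [hcolr', hnum, List.map_map, ← hr'def]
    congr 1
    refine List.map_congr_left fun q _ => ?_
    simp
  rw [eL, eR]
  congr 2
  refine List.map_congr_left fun q _ => ?_
  congr 1
  rw [ipow_eq, ← hηdef]
  have e1 : η ^ q.2.1 * η ^ q.2.1 = 1 := by rw [← mul_pow, hηdef, eta_mul_self, one_pow]
  linear_combination (-(q.2.2 * T.eta i q.1) * η ^ q.2.1 * η ^ q.2.1) * eta_mul_self T i c -
    (q.2.2 * T.eta i q.1) * e1

include hv in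
theorem nMat_mul_x {i r : ℕ} (hi : i < T.l) (hN : T.checkN i = true) (hC : T.checkConj i = true)
    (hr : r < T.n) (t : F) :
    D.nMat F (D.simple i) 1 * D.x F r t =
      D.x F (T.piRoot i r) ((T.eta i r : F) * t) * D.nMat F (D.simple i) 1 := by
  have h := conjRow hv hC hr
  refine ext_unitFun fun c hc => ?_
  have hc' : c < T.rowsN := by rw [rowsN, hv.hn, hv.hl]; exact hc
  have := evalV_conj hv hi hr h t (0 : F) hc'
  rw [evalV_applyP hv hi hN, evalV_applyX hv hr, evalV_applyX hv h.hr', evalV_applyP hv hi hN,
    evalV_unitVec] at this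
  simpa [Letter.param, ← Matrix.mulVec_mulVec] using this

end Data

end CfsgLib.Chev
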