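import Cfsg.Agent.Lib.Chev.Comm
import Cfsg.Agent.Lib.Chev.DataE7
import Cfsg.Prelude.Def_ChevE7

/-! Kernel checks of the equivariance of the E7 tables. -/
set_option autoImplicit false

namespace CfsgLib.Chev.E7

theorem checkConj0 : data.checkConj 0 = true := by decide +kernel
theorem checkN0 : data.checkN 0 = true := by decide +kernel
theorem checkConj1 : data.checkConj 1 = true := by decide +kernel
theorem checkN1 : data.checkN 1 = true := by decide +kernel
theorem checkConj2 : data.checkConj 2 = true := by decide +kernel
theorem checkN2 : data.checkN 2 = true := by decide +kernel

end CfsgLib.Chev.E7
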