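import Cfsg.Agent.Lib.Chev.Sound

/-!
Equivariance of the root elements under the fundamental reflections:
`n_p x_r(t) = x_{w r}(η t) n_p`, from the table checks.
-/

set_option autoImplicit false

namespace CfsgLib.Chev

open Cfsg.Lie Matrix

variable {D : ChevalleyDatum} {F : Type*} [Field F] {T : Data}

namespace Data

theorem eta_eq (T : Data) (i s : ℕ) : T.eta i s = 1 ∨ T.eta i s = -1 := by
  unfold eta
  cases Nat.beq (Nat.mod (pfield (T.pc i) s) 2) 0 <;> simp

theorem eta_mul_self (T : Data) (i s : ℕ) : T.eta i s * T.eta i s = 1 := by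
  rcases T.eta_eq i s with h | h <;> simp [h]

theorem eta_eq_pow (T : Data) (i s : ℕ) : T.eta i s = (-1) ^ (pfield (T.pc i) s) := by
  unfold eta
  rcases Nat.mod_two_eq_zero_or_one (pfield (T.pc i) s) with h | h
  · have h' : Nat.mod (pfield (T.pc i) s) 2 = 0 := h
    simp [h', Even.neg_one_pow (Nat.even_iff.2 h)]
  · have h' : Nat.mod (pfield (T.pc i) s) 2 = 1 := h
    simp [h', show Nat.beq 1 0 = false from rfl, Odd.neg_one_pow (Nat.odd_iff.2 h)]

/-- Apply the monomial matrix of the `i`-th reflection to a sparse vector. -/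
def applyP (T : Data) (i : ℕ) (V : List Term) : List Term :=
  V.flatMap fun e => (T.pTerm i e.row).map fun q => ⟨q.1, e.a, e.b, e.c * q.2⟩

variable (hv : T.Valid D)

theorem evalV_map_pTerm (t u : F) (e : Term) : ∀ qs : List (ℕ × ℤ),
    evalV D t u (qs.map fun q => (⟨q.1, e.a, e.b, e.c * q.2⟩ : Term)) =
      ((e.c : F) * t ^ e.a * u ^ e.b) • evalV D t u (qs.map fun q => (⟨q.1, 0, 0, q.2⟩ : Term))
  | [] => by simp
  | q :: qs => by
    simp only [List.map_cons, evalV_cons, evalV_map_pTerm t u e qs, smul_add, smul_smul]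
    congr 2
    simp
    ring

include hv in
theorem nMat_mulVec_unitFun {i : ℕ} (hi : i < T.l) (hN : T.checkN i = true) (t u : F) (c : ℕ) :
    D.nMat F (D.simple i) 1 *ᵥ unitFun D F c = evalV D t u (T.pVec i c) := by
  by_cases hc : c < T.rowsN
  · have hp := hv.simple_lt i hi
    simp only [checkN, List.all_eq_true, List.mem_range] at hN
    have h := evalV_eq_of_sameVec (D := D) t u (hN c hc)
    have hw : ∀ L ∈ T.nWordL i, L.r < T.n := by
      intro L hL
      simp only [nWordL, List.mem_cons, List.not_mem_nil, or_false] at hL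
      rcases hL with rfl | rfl | rfl
      · exact hp
      · exact hv.neg_lt _ hp
      · exact hp
    rw [evalV_applyW hv t u _ hw, evalV_unitVec] at h
    rw [← h]
    simp [ChevalleyDatum.nMat, ChevalleyDatum.nWord, evalW, nWordL, Letter.param, hv.simple_eq,
      hv.neg_eq _ hp]
  · have h1 : Nat.blt c T.n = false := by
      rw [Bool.eq_false_iff, ne_eq, Nat.blt_eq]; simp only [rowsN] at hc; omega
    have h2 : Nat.blt c T.rowsN = false := by
      rw [Bool.eq_false_iff, ne_eq, Nat.blt_eq]; omega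
    rw [unitFun_eq_zero (by simp only [rowsN, hv.hn, hv.hl] at hc; omega)]
    simp [pVec, pTerm, h1, h2]

include hv in
theorem evalV_applyP {i : ℕ} (hi : i < T.l) (hN : T.checkN i = true) (t u : F) : ∀ V : List Term,
    evalV D t u (T.applyP i V) = D.nMat F (D.simple i) 1 *ᵥ evalV D t u V
  | [] => by simp [applyP]
  | e :: V => by
    have ih := evalV_applyP hi hN t u V
    simp only [applyP] at ih ⊢
    rw [List.flatMap_cons, evalV_append, ih, evalV_cons, Matrix.mulVec_add, Matrix.mulVec_smul,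
      nMat_mulVec_unitFun hv hi hN t u, evalV_map_pTerm]
    rfl

theorem pTerm_root {i c : ℕ} (hc : c < T.n) : T.pTerm i c = [(T.piRoot i c, T.eta i c)] := by
  simp [pTerm, show Nat.blt c T.n = true by simpa [Nat.blt_eq] using hc]

theorem pTerm_cor {i j : ℕ} (hj : j < T.l) :
    T.pTerm i (T.n + j) =
      [(T.n + j, 1), (T.n + i, -((T.row (T.simp' i)).car.getD j 0))] := by
  have h1 : Nat.blt (T.n + j) T.n = false := by rw [Bool.eq_false_iff, ne_eq, Nat.blt_eq]; omega
  have h2 : Nat.blt (T.n + j) T.rowsN = true := by rw [Nat.blt_eq, rowsN]; omega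
  simp [pTerm, h1, h2]

theorem checkPerm_spec {i : ℕ} (h : T.checkPerm i = true) {s : ℕ} (hs : s < T.n) :
    T.piRoot i s < T.n ∧ T.piRoot i (T.piRoot i s) = s := by
  simp only [checkPerm, List.all_eq_true, Bool.and_eq_true, List.mem_range, Nat.blt_eq, Nat.beq_eq] at h
  exact h s hs

include hv in
theorem isUnit_nMat {i : ℕ} (hi : i < T.l) (hN : T.checkN i = true) (hC : T.checkConj i = true) :
    IsUnit (D.nMat F (D.simple i) 1) := by
  simp only [checkConj, Bool.and_eq_true, decide_eq_true_eq] at hC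
  set P := D.nMat F (D.simple i) 1
  have hPP : ∀ c < T.rowsN, ∃ z : F, z * z = 1 ∧ P *ᵥ (P *ᵥ unitFun D F c) = z • unitFun D F c := by
    intro c hc
    have step : P *ᵥ (P *ᵥ unitFun D F c) = evalV D 1 1 (T.applyP i (T.pVec i c)) := by
      rw [evalV_applyP hv hi hN, nMat_mulVec_unitFun hv hi hN]
    by_cases hcn : c < T.n
    · obtain ⟨hlt, hinv⟩ := checkPerm_spec hC.1.1 hcn
      refine ⟨(T.eta i c : F) * (T.eta i (T.piRoot i c) : F), ?_, ?_⟩
      · rw [mul_mul_mul_comm, ← Int.cast_mul, ← Int.cast_mul, eta_mul_self, eta_mul_self]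
        simp
      · rw [step]
        simp [applyP, pVec, pTerm_root hcn, pTerm_root hlt, hinv]
    · obtain ⟨j, rfl⟩ : ∃ j, c = T.n + j := ⟨c - T.n, by omega⟩
      have hj : j < T.l := by simp only [rowsN] at hc; omega
      refine ⟨1, one_mul 1, ?_⟩
      rw [step]
      have h2 := hC.1.2
      simp only [List.getD_eq_getElem?_getD] at h2
      simp [applyP, pVec, pTerm_cor hj, pTerm_cor hi, h2]
      funext x
      simp
      ring
  have h4 : (P * P) * (P * P) = 1 := by
    refine ext_unitFun fun c hc => ?_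
    obtain ⟨z, hz, hzc⟩ := hPP c (by rw [rowsN, hv.hn, hv.hl]; exact hc)
    simp only [← Matrix.mulVec_mulVec, hzc, Matrix.mulVec_smul, smul_smul, hz, one_smul,
      Matrix.one_mulVec]
  exact IsUnit.of_mul_eq_one (P * (P * P)) (by rw [← h4]; simp only [mul_assoc])

theorem checkField_decode (pc es er : ℕ) : ∀ (K k f g : ℕ), checkField pc es er K k f g = true →
    number k (decode K g) = (number k (decode K f)).map fun q =>
      (Nat.div (pfield pc q.1) 2, q.2.1, (-1 : ℤ) ^ (es + q.2.1 * er + pfield pc q.1) * q.2.2)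
  | 0, _, _, _, _ => rfl
  | K + 1, k, f, g, h => by
    change (bif Nat.beq (Nat.mod f 4096) 0 then Nat.beq (Nat.mod g 4096) 0
      else Nat.blt 0 (Nat.mod f 16) &&
        Nat.beq (Nat.mod g 4096)
          (Nat.add (Nat.mul (Nat.div (pfield pc (Nat.div (Nat.mod f 4096) 16)) 2) 16)
            (bif Nat.beq (Nat.mod (Nat.add (Nat.add es (Nat.mul k er))
                (pfield pc (Nat.div (Nat.mod f 4096) 16))) 2) 0
              then Nat.mod f 16 else Nat.sub 16 (Nat.mod f 16))) &&
        checkField pc es er K (Nat.add k 1) (Nat.div f 4096) (Nat.div g 4096)) = true at h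
    cases hf : Nat.beq (Nat.mod f 4096) 0
    swap
    · rw [hf, cond_true] at h
      simp [decode, hf, h, number]
    rw [hf, cond_false, Bool.and_eq_true, Bool.and_eq_true, Nat.blt_eq, Nat.beq_eq] at h
    obtain ⟨⟨hm, hg⟩, hrest⟩ := h
    have ih := checkField_decode pc es er K (k + 1) (f / 4096) (g / 4096) hrest
    have hg' : g % 4096 = pfield pc (f % 4096 / 16) / 2 * 16 +
        (bif Nat.beq (Nat.mod (Nat.add (Nat.add es (Nat.mul k er))
          (pfield pc (Nat.div (Nat.mod f 4096) 16))) 2) 0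
          then f % 16 else 16 - f % 16) := hg
    have hm' : 0 < f % 16 := hm
    simp only [decode, hf, cond_false, number, List.map_cons]
    rcases Nat.mod_two_eq_zero_or_one (es + k * er + pfield pc (f % 4096 / 16)) with hp | hp
    · have hb : Nat.beq (Nat.mod (Nat.add (Nat.add es (Nat.mul k er))
          (pfield pc (Nat.div (Nat.mod f 4096) 16))) 2) 0 = true := by rw [Nat.beq_eq]; exact hp
      rw [hb, cond_true] at hg'
      have hg0 : Nat.beq (Nat.mod g 4096) 0 = false := by
        rw [Bool.eq_false_iff, ne_eq, Nat.beq_eq]; show g % 4096 ≠ 0; omega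
      rw [hg0, cond_false, number]
      refine congrArg₂ List.cons ?_ ih
      show (g % 4096 / 16, k, Int.ofNat (g % 16) - 8) = (pfield pc (f % 4096 / 16) / 2, k,
        (-1 : ℤ) ^ (es + k * er + pfield pc (f % 4096 / 16)) * (Int.ofNat (f % 16) - 8))
      rw [Even.neg_one_pow (Nat.even_iff.2 hp), one_mul, show g % 16 = f % 16 by omega,
        show g % 4096 / 16 = pfield pc (f % 4096 / 16) / 2 by omega]
    · have hb : Nat.beq (Nat.mod (Nat.add (Nat.add es (Nat.mul k er))
          (pfield pc (Nat.div (Nat.mod f 4096) 16))) 2) 0 = false := by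
        rw [Bool.eq_false_iff, ne_eq, Nat.beq_eq]
        show (es + k * er + pfield pc (f % 4096 / 16)) % 2 ≠ 0
        omega
      rw [hb, cond_false] at hg'
      have hg0 : Nat.beq (Nat.mod g 4096) 0 = false := by
        rw [Bool.eq_false_iff, ne_eq, Nat.beq_eq]; show g % 4096 ≠ 0; omega
      rw [hg0, cond_false, number]
      refine congrArg₂ List.cons ?_ ih
      show (g % 4096 / 16, k, Int.ofNat (g % 16) - 8) = (pfield pc (f % 4096 / 16) / 2, k,
        (-1 : ℤ) ^ (es + k * er + pfield pc (f % 4096 / 16)) * (Int.ofNat (f % 16) - 8))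
      rw [Odd.neg_one_pow (Nat.odd_iff.2 hp)]
      refine Prod.ext (by show g % 4096 / 16 = _; omega) (Prod.ext rfl ?_)
      show Int.ofNat (g % 16) - 8 = -1 * (Int.ofNat (f % 16) - 8)
      simp only [Int.ofNat_eq_natCast]
      omega

theorem bit_mapMask (pc : ℕ) : ∀ (l : List ℕ) (s : ℕ),
    bit (mapMask pc l) s = true ↔ ∃ a ∈ l, Nat.div (pfield pc a) 2 = s
  | [], s => by simp [mapMask, bit_eq_testBit]
  | a :: l, s => by
    have : mapMask pc (a :: l) = 2 ^ (Nat.div (pfield pc a) 2) ||| mapMask pc l := rfl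
    rw [this, bit_eq_testBit, Nat.testBit_or, Nat.testBit_two_pow, Bool.or_eq_true,
      ← bit_eq_testBit, bit_mapMask pc l s]
    simp

/-- What `checkConjRow` guarantees for one root. -/
structure ConjRow (T : Data) (i r : ℕ) : Prop where
  hr' : T.piRoot i r < T.n
  inv : ∀ s < T.n, T.piRoot i s < T.n ∧ T.piRoot i (T.piRoot i s) = s
  two : (T.row (T.simp' i)).car.getD i 0 = 2
  moved : ∀ s, s < T.n → (T.piRoot i s ∈ (T.row (T.piRoot i r)).moved ↔ s ∈ (T.row r).moved)
  num : ∀ s < T.n, number 1 (T.ent (T.piRoot i r) (T.piRoot i s)) =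
    (number 1 (T.ent r s)).map fun q =>
      (T.piRoot i q.1, q.2.1, T.eta i s * T.eta i r ^ q.2.1 * T.eta i q.1 * q.2.2)
  neg : T.piRoot i (T.row r).neg = (T.row (T.piRoot i r)).neg
  eta_neg : T.eta i (T.row r).neg = T.eta i r
  cor : (T.row (T.piRoot i r)).cor = T.wCor i (T.row r).cor
  car : ∀ j < T.l, (T.row r).car.getD j 0 =
    (T.row (T.piRoot i r)).car.getD j 0 -
      (T.row (T.simp' i)).car.getD j 0 * (T.row (T.piRoot i r)).car.getD i 0

include hv in
theorem conjRow {i r : ℕ} (hC : T.checkConj i = true) (hr : r < T.n) : T.ConjRow i r := by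
  simp only [checkConj, Bool.and_eq_true, decide_eq_true_eq, List.all_eq_true, List.mem_range] at hC
  obtain ⟨⟨hperm, h2⟩, hrows⟩ := hC
  have hperm' := fun s (hs : s < T.n) => checkPerm_spec (i := i) hperm hs
  have h := hrows r hr
  simp only [checkConjRow, Bool.and_eq_true, decide_eq_true_eq, Nat.beq_eq, allL_iff] at h
  obtain ⟨⟨⟨⟨⟨hent, hmask⟩, hnr⟩, hsg⟩, hcor⟩, hcar⟩ := h
  have hr' := (hperm' r hr).1
  have hmem : ∀ x, x ∈ (T.row (T.piRoot i r)).moved ↔ ∃ a ∈ (T.row r).moved, T.piRoot i a = x := by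
    intro x
    rw [← hv.moved_iff _ hr', ← hmask, bit_mapMask]
    rfl
  have hmoved : ∀ s, s < T.n →
      (T.piRoot i s ∈ (T.row (T.piRoot i r)).moved ↔ s ∈ (T.row r).moved) := by
    intro s hs
    rw [hmem]
    refine ⟨fun ⟨a, ha, he⟩ => ?_, fun h => ⟨s, h, rfl⟩⟩
    have ha' := (hv.moved_lt r hr a ha).1
    have : a = s := by rw [← (hperm' a ha').2, he, (hperm' s hs).2]
    exact this ▸ ha
  refine ⟨hr', hperm', h2, hmoved, fun s hs => ?_, hnr, ?_, hcor, fun j hj => ?_⟩
  · by_cases hm : s ∈ (T.row r).moved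
    · have hb : bit (T.row r).mask s = true := (hv.moved_iff r hr s).2 hm
      have hb' : bit (T.row (T.piRoot i r)).mask (T.piRoot i s) = true :=
        (hv.moved_iff _ hr' _).2 ((hmoved s hs).2 hm)
      simp only [ent, entR, hb, hb', cond_true]
      rw [show T.piRoot i s = Nat.div (pfield (T.pc i) s) 2 from rfl,
        checkField_decode _ _ _ _ _ _ _ (hent s hm)]
      refine List.map_congr_left fun q _ => ?_
      simp only [eta_eq_pow, pow_add, ← pow_mul, mul_comm q.2.1]
      rfl
    · rw [hv.ent_empty hr hm, hv.ent_empty hr' fun h => hm ((hmoved s hs).1 h)]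
      rfl
  · unfold eta
    rw [hsg]
  · rw [hcar, getD_map_range _ _ _ hj]

end Data

end CfsgLib.Chev
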