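import Cfsg.Agent.Lib.Chev.Tables

/-!
Soundness of the word evaluator against `ChevalleyDatum.x`.
-/

set_option autoImplicit false

namespace CfsgLib.Chev

open Cfsg.Lie Matrix

variable {D : ChevalleyDatum} {F : Type*} [Field F]

/-- The number of a basis vector: roots first, then the fundamental coroots. -/
def idxCode (D : ChevalleyDatum) : D.Idx → ℕ := Sum.elim (fun j => D.nroots + j.val) (fun u => u.val)

@[simp] theorem idxCode_inl (j : Fin D.rank) : idxCode D (Sum.inl j) = D.nroots + j.val := rfl

@[simp] theorem idxCode_inr (u : Fin D.nroots) : idxCode D (Sum.inr u) = u.val := rfl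

theorem idxCode_injective : Function.Injective (idxCode D) := by
  rintro (j | u) (j' | u') h <;> simp only [idxCode_inl, idxCode_inr] at h
  · exact congrArg Sum.inl (Fin.ext (by omega))
  · omega
  · omega
  · exact congrArg Sum.inr (Fin.ext h)

theorem idxCode_lt (i : D.Idx) : idxCode D i < D.nroots + D.rank := by
  rcases i with j | u <;> simp only [idxCode_inl, idxCode_inr] <;> omega

theorem exists_idxCode {c : ℕ} (h : c < D.nroots + D.rank) : ∃ j : D.Idx, idxCode D j = c := by
  by_cases hc : c < D.nroots
  · exact ⟨Sum.inr ⟨c, hc⟩, rfl⟩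
  · exact ⟨Sum.inl ⟨c - D.nroots, by omega⟩, by simp; omega⟩

/-- The coordinate vector with number `c`. -/
def unitFun (D : ChevalleyDatum) (F : Type*) [Field F] (c : ℕ) : D.Idx → F :=
  fun i => if idxCode D i = c then 1 else 0

theorem unitFun_idxCode (j : D.Idx) : unitFun D F (idxCode D j) = Pi.single j (1 : F) := by
  funext i
  by_cases h : i = j
  · simp [unitFun, h]
  · have hne : idxCode D i ≠ idxCode D j := fun h' => h (idxCode_injective h')
    simp [unitFun, h, hne]

theorem unitFun_eq_zero {c : ℕ} (h : D.nroots + D.rank ≤ c) : unitFun D F c = 0 := by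
  funext i
  have := idxCode_lt i
  simp [unitFun, show idxCode D i ≠ c by omega]

/-- The value of a sparse vector. -/
def evalV (D : ChevalleyDatum) {F : Type*} [Field F] (t u : F) : List Term → D.Idx → F
  | [] => 0
  | e :: es => ((e.c : F) * t ^ e.a * u ^ e.b) • unitFun D F e.row + evalV D t u es

@[simp] theorem evalV_nil (t u : F) : evalV D t u [] = 0 := rfl

@[simp] theorem evalV_cons (t u : F) (e : Term) (es : List Term) :
    evalV D t u (e :: es) = ((e.c : F) * t ^ e.a * u ^ e.b) • unitFun D F e.row + evalV D t u es := rfl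

theorem evalV_append (t u : F) : ∀ V W : List Term,
    evalV D t u (V ++ W) = evalV D t u V + evalV D t u W
  | [], W => by simp
  | e :: V, W => by simp [evalV_append t u V W, add_assoc]

theorem evalV_negTerms (t u : F) : ∀ V : List Term, evalV D t u (negTerms V) = - evalV D t u V
  | [] => by simp [negTerms]
  | e :: V => by simp [negTerms, evalV_negTerms t u V, add_comm]

theorem evalV_ins (t u : F) (e : Term) : ∀ V : List Term,
    evalV D t u (ins e V) = evalV D t u (e :: V)
  | [] => rfl
  | f :: V => by
    simp only [ins]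
    cases h : Nat.beq e.row f.row && Nat.beq e.a f.a && Nat.beq e.b f.b
    · simp only [cond_false, evalV_cons, evalV_ins t u e V]
      abel
    · simp only [Bool.and_eq_true, Nat.beq_eq] at h
      simp only [cond_true, evalV_cons, h.1.1, h.1.2, h.2, Int.cast_add, add_mul, add_smul]
      abel

theorem evalV_merge (t u : F) : ∀ V : List Term, evalV D t u (merge V) = evalV D t u V
  | [] => rfl
  | e :: V => by simp [merge, evalV_ins, evalV_merge t u V]

theorem isZeroInt_iff {c : ℤ} : isZeroInt c = true ↔ c = 0 := by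
  cases c with
  | ofNat n => simp [isZeroInt]
  | negSucc n => simp [isZeroInt]

theorem evalV_eq_zero (t u : F) : ∀ V : List Term,
    (∀ e ∈ V, e.c = 0) → evalV D t u V = 0
  | [], _ => rfl
  | e :: V, h => by
    simp [h e (by simp), evalV_eq_zero t u V fun e he => h e (by simp [he])]

theorem evalV_eq_of_sameVec (t u : F) {V W : List Term} (h : sameVec V W = true) :
    evalV D t u V = evalV D t u W := by
  simp only [sameVec, List.all_eq_true, isZeroInt_iff] at h
  have := evalV_eq_zero (D := D) t u _ h
  rw [evalV_merge, evalV_append, evalV_negTerms, ← sub_eq_add_neg, sub_eq_zero] at this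
  exact this

@[simp] theorem evalV_unitVec (t u : F) (c : ℕ) : evalV D t u (unitVec c) = unitFun D F c := by
  simp [unitVec]

/-- Matrices agreeing on all coordinate vectors are equal. -/
theorem ext_unitFun {M N : Matrix D.Idx D.Idx F}
    (h : ∀ c < D.nroots + D.rank, M *ᵥ unitFun D F c = N *ᵥ unitFun D F c) : M = N := by
  ext i j
  have := congrFun (h _ (idxCode_lt j)) i
  rw [unitFun_idxCode, Matrix.mulVec_single_one, Matrix.mulVec_single_one] at this
  exact this

theorem ipow_eq (c : ℤ) : ∀ k, ipow c k = c ^ k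
  | 0 => by simp [ipow]
  | k + 1 => by simp [ipow, ipow_eq c k, pow_succ]

/-- The value of a letter at `(t, u)`. -/
def Letter.param (t u : F) (L : Letter) : F := (L.c : F) * t ^ L.a * u ^ L.b

def evalW (t u : F) (w : List Letter) : List (ℕ × F) := w.map fun L => (L.r, L.param t u)

/-- The value of a list of (row, exponent, coefficient) entries. -/
def evalCol (D : ChevalleyDatum) {F : Type*} [Field F] (τ : F) : List (ℕ × ℕ × ℤ) → D.Idx → F
  | [] => 0
  | q :: qs => ((q.2.2 : F) * τ ^ q.2.1) • unitFun D F q.1 + evalCol D τ qs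

@[simp] theorem evalCol_nil (τ : F) : evalCol D τ [] = 0 := rfl

@[simp] theorem evalCol_cons (τ : F) (q : ℕ × ℕ × ℤ) (qs : List (ℕ × ℕ × ℤ)) :
    evalCol D τ (q :: qs) = ((q.2.2 : F) * τ ^ q.2.1) • unitFun D F q.1 + evalCol D τ qs := rfl

theorem evalCol_corTerms_inr (τ : F) (u : Fin D.nroots) : ∀ (k : ℕ) (cs : List ℤ), D.nroots ≤ k →
    evalCol D τ (corTerms k cs) (Sum.inr u) = 0
  | _, [], _ => rfl
  | k, c :: cs, hk => by
    simp [corTerms, unitFun, evalCol_corTerms_inr τ u (k + 1) cs (by omega),
      show u.val ≠ k by omega]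

theorem evalCol_corTerms_inl (τ : F) (j : Fin D.rank) : ∀ (k : ℕ) (cs : List ℤ),
    evalCol D τ (corTerms k cs) (Sum.inl j) =
      if k ≤ D.nroots + j.val then ((cs.getD (D.nroots + j.val - k) 0 : ℤ) : F) * τ else 0
  | _, [] => by simp [corTerms]
  | k, c :: cs => by
    simp only [corTerms, evalCol_cons, Pi.add_apply, Pi.smul_apply,
      evalCol_corTerms_inl τ j (k + 1) cs, pow_one, smul_eq_mul, unitFun, idxCode_inl]
    rcases lt_trichotomy k (D.nroots + j.val) with h | h | h
    · have e : D.nroots + j.val - k = D.nroots + j.val - (k + 1) + 1 := by omega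
      simp [h.le, h.ne', show k + 1 ≤ D.nroots + j.val from h, e]
    · simp [h]
    · simp [show ¬ k ≤ D.nroots + j.val by omega, show ¬ k + 1 ≤ D.nroots + j.val by omega, h.ne]

theorem evalCol_number_inl (τ : F) (j : Fin D.rank) : ∀ (k : ℕ) (es : List (ℕ × ℤ)),
    (∀ q ∈ es, q.1 < D.nroots) → evalCol D τ (number k es) (Sum.inl j) = 0
  | _, [], _ => rfl
  | k, (u, M) :: es, h => by
    have hu : u < D.nroots := h (u, M) (by simp)
    simp [number, unitFun, evalCol_number_inl τ j (k + 1) es fun q hq => h q (by simp [hq]),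
      show D.nroots + j.val ≠ u by omega]

theorem evalCol_number_inr (τ : F) (u : Fin D.nroots) : ∀ (k : ℕ) (es : List (ℕ × ℤ)),
    evalCol D τ (number (k + 1) es) (Sum.inr u) =
      ((((es.zipIdx k).filter fun q => decide (q.1.1 = u.val)).map fun q => (q.2 + 1, q.1.2)).map
        fun km => ((km.2 : ℤ) : F) * τ ^ km.1).sum
  | _, [] => rfl
  | k, (v, M) :: es => by
    simp only [number, evalCol_cons, Pi.add_apply, Pi.smul_apply, evalCol_number_inr τ u (k + 1) es,
      List.zipIdx_cons, smul_eq_mul, unitFun, idxCode_inr]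
    by_cases h : v = u.val
    · simp [h]
    · simp [h, Ne.symm h]

theorem filter_map_eq {g : ℕ → List (ℕ × ℤ)} {s : ℕ} :
    ∀ {es : List (ℕ × Array (ℕ × ℤ))} {ss : List ℕ},
      es.map (fun e => (e.1, e.2.toList)) = ss.map (fun s => (s, g s)) → ss.Nodup →
        (es.filter fun e => decide (e.1 = s)).map (fun e => e.2.toList) = if s ∈ ss then [g s] else []
  | [], [], _, _ => by simp
  | [], _ :: _, h, _ => by simp at h
  | _ :: _, [], h, _ => by simp at h
  | e :: es, a :: ss, h, hnd => by
    simp only [List.map_cons, List.cons.injEq, Prod.mk.injEq] at h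
    obtain ⟨ha, hnd⟩ := List.nodup_cons.1 hnd
    by_cases hs : e.1 = s
    · subst hs
      have : e.1 ∉ ss := h.1.1 ▸ ha
      rw [List.filter_cons_of_pos (by simp), List.map_cons, filter_map_eq h.2 hnd]
      simp [ha, h.1.1, h.1.2]
    · have hsa : s ≠ a := fun h' => hs (h.1.1.trans h'.symm)
      rw [List.filter_cons_of_neg (by simpa using hs), filter_map_eq h.2 hnd]
      simp [hsa]

namespace Data.Valid

variable {T : Data} (hv : T.Valid D)

include hv in
theorem chainCoeff_eq {r : ℕ} (hr : r < T.n) (s u : ℕ) :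
    D.chainCoeff r s u =
      (((T.ent r s).zipIdx).filter fun q => decide (q.1.1 = u)).map fun q => (q.2 + 1, q.1.2) := by
  have h := filter_map_eq (s := s) (hv.row_eq r hr) (hv.moved_nodup r hr)
  have e : D.chainCoeff r s u =
      (((D.chain.getD r #[]).toList.filter fun e => decide (e.1 = s)).map fun e => e.2.toList).flatMap
        fun es => (es.zipIdx.filter fun q => decide (q.1.1 = u)).map fun q => (q.2 + 1, q.1.2) := by
    simp [ChevalleyDatum.chainCoeff, List.flatMap_map]
  rw [e, h]
  split
  · simp
  · rename_i hs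
    simp [hv.ent_empty hr hs]

include hv in
theorem x_mulVec_unitFun {r : ℕ} (hr : r < T.n) (τ : F) (c : ℕ) :
    D.x F r τ *ᵥ unitFun D F c = unitFun D F c + evalCol D τ (T.col r c) := by
  have hn := hv.hn
  have hl := hv.hl
  have hr' : r < D.nroots := hn ▸ hr
  have blt_true : ∀ {a b : ℕ}, a < b → Nat.blt a b = true := fun h => by simpa [Nat.blt_eq] using h
  have blt_false : ∀ {a b : ℕ}, ¬ a < b → Nat.blt a b = false := fun h => by
    simpa [Bool.eq_false_iff, Nat.blt_eq] using h
  have beq_true : ∀ {a b : ℕ}, a = b → Nat.beq a b = true := fun h => by simp [h]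
  have beq_false : ∀ {a b : ℕ}, a ≠ b → Nat.beq a b = false := fun h => by
    simpa [Bool.eq_false_iff] using h
  by_cases hc : c < D.nroots + D.rank
  swap
  · push Not at hc
    have h2 : (T.row r).car[c - T.n]? = none :=
      List.getElem?_eq_none (by have := hv.car_len r hr; omega)
    rw [Data.col, Data.colR, blt_false (show ¬ c < T.n by omega), cond_false, unitFun_eq_zero hc]
    simp [h2]
  obtain ⟨j, rfl⟩ := exists_idxCode hc
  funext i
  rw [Data.col, Data.colR]
  rcases j with j | s
  · rw [blt_false (show ¬ idxCode D (Sum.inl j) < T.n by simp [hn]), cond_false,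
      unitFun_idxCode, Matrix.mulVec_single_one]
    have hcar : (D.cartanSR.getD j.val #[]).getD r 0 = (T.row r).car.getD j.val 0 :=
      hv.car_eq r hr j.val (lt_of_lt_of_eq j.isLt hl.symm)
    simp only [Matrix.col_apply, ChevalleyDatum.x, dif_pos hr', ChevalleyDatum.xMat, Matrix.of_apply,
      Pi.add_apply, evalCol_cons, evalCol_nil, add_zero, Pi.smul_apply, hcar, idxCode_inl]
    rcases i with i | u
    · simp [unitFun, Pi.single_apply, show D.nroots + i.val ≠ r by omega]
    · simp [unitFun, Pi.single_apply, hn, Fin.ext_iff]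
      split <;> rename_i h <;> simp [h]
  · rw [blt_true (show idxCode D (Sum.inr s) < T.n by simp [hn]), cond_true,
      unitFun_idxCode, Matrix.mulVec_single_one]
    have hneg : D.negIdx.getD r 0 = (T.row r).neg := (hv.neg_eq r hr).symm
    simp only [Matrix.col_apply, ChevalleyDatum.x, dif_pos hr', ChevalleyDatum.xMat, Matrix.of_apply,
      Pi.add_apply, idxCode_inr, Fin.ext_iff, hneg]
    by_cases h1 : s.val = r
    · rw [beq_true h1, cond_true]
      rcases i with i | u <;> simp [h1, Pi.single_apply, Fin.ext_iff]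
    rw [beq_false h1, cond_false]
    by_cases h2 : s.val = (T.row r).neg
    · rw [beq_true h2, cond_true]
      simp only [if_neg h1, if_pos h2, evalCol_cons, Pi.add_apply, Pi.smul_apply]
      rcases i with i | u
      · dsimp only
        rw [hv.cor_eq r hr]
        simp [unitFun, evalCol_corTerms_inl, hn, show D.nroots + i.val ≠ r by omega]
      · dsimp only
        rw [evalCol_corTerms_inr _ _ _ _ hn.ge]
        simp only [unitFun, Pi.single_apply, Sum.inr.injEq, Fin.ext_iff, idxCode_inr]
        by_cases h3 : u.val = s.val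
        · have h4 : u.val ≠ r := fun h => h1 (h3 ▸ h)
          simp [h3, h1]
        · by_cases h4 : u.val = r <;> simp [h3, h4]
          simp [Ne.symm h1]
    · rw [beq_false h2, cond_false]
      simp only [if_neg h1, if_neg h2]
      have hlt : ∀ q ∈ T.entR (T.row r) s.val, q.1 < D.nroots :=
        fun q hq => hn ▸ hv.ent_lt r hr _ q hq
      rcases i with i | u
      · simp [evalCol_number_inl _ _ _ _ hlt]
      · dsimp only
        rw [evalCol_number_inr τ u 0, hv.chainCoeff_eq hr]
        simp [Pi.single_apply, Fin.ext_iff, Data.ent]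

end Data.Valid

namespace Data

variable {T : Data} (hv : T.Valid D)

theorem evalV_map_col (t u : F) (L : Letter) (e : Term) : ∀ qs : List (ℕ × ℕ × ℤ),
    evalV D t u (qs.map fun q =>
        (⟨q.1, e.a + q.2.1 * L.a, e.b + q.2.1 * L.b, e.c * q.2.2 * ipow L.c q.2.1⟩ : Term)) =
      ((e.c : F) * t ^ e.a * u ^ e.b) • evalCol D (L.param t u) qs
  | [] => by simp
  | q :: qs => by
    simp only [List.map_cons, evalV_cons, evalCol_cons, evalV_map_col t u L e qs, smul_add, smul_smul]
    congr 2
    simp [Letter.param, ipow_eq, mul_pow, ← pow_mul, pow_add]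
    ring

include hv in
theorem evalV_applyX {L : Letter} (hL : L.r < T.n) (t u : F) : ∀ V : List Term,
    evalV D t u (T.applyX L V) = D.x F L.r (L.param t u) *ᵥ evalV D t u V
  | [] => by simp [applyX]
  | e :: V => by
    have ih := evalV_applyX hL t u V
    simp only [applyX] at ih ⊢
    rw [List.flatMap_cons, evalV_append, ih, evalV_cons, Matrix.mulVec_add, Matrix.mulVec_smul,
      hv.x_mulVec_unitFun hL]
    simp [applyTerm, evalV_map_col]

include hv in
theorem evalV_applyW (t u : F) : ∀ {w : List Letter} (V : List Term), (∀ L ∈ w, L.r < T.n) →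
    evalV D t u (T.applyW w V) = D.wordMat F (evalW t u w) *ᵥ evalV D t u V
  | [], V, _ => by simp [applyW, evalW, ChevalleyDatum.wordMat]
  | L :: w, V, h => by
    simp only [applyW]
    rw [evalV_applyX hv (h L (by simp)), evalV_applyW t u V fun L hL => h L (by simp [hL]),
      Matrix.mulVec_mulVec]
    simp [evalW, ChevalleyDatum.wordMat]

include hv in
theorem wordMat_eq_of_checkWords {W₁ W₂ : List Letter} (h : T.checkWords W₁ W₂ = true) (t u : F) :
    D.wordMat F (evalW t u W₁) = D.wordMat F (evalW t u W₂) := by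
  simp only [checkWords, Bool.and_eq_true, List.all_eq_true, Nat.blt_eq, List.mem_range] at h
  refine ext_unitFun fun c hc => ?_
  have := evalV_eq_of_sameVec (D := D) t u (h.2 c (by rw [rowsN, hv.hn, hv.hl]; exact hc))
  rwa [evalV_applyW hv t u _ h.1.1, evalV_applyW hv t u _ h.1.2, evalV_unitVec] at this

theorem evalV_binom (t u : F) (row m : ℕ) (M : ℤ) : ∀ ks : List ℕ,
    evalV D t u (ks.map fun k => (⟨row, k, m - k, M * Int.ofNat (Nat.choose m k)⟩ : Term)) =
      ((M : F) * (ks.map fun k => t ^ k * u ^ (m - k) * (Nat.choose m k : F)).sum) • unitFun D F row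
  | [] => by simp
  | k :: ks => by
    simp only [List.map_cons, evalV_cons, evalV_binom t u row m M ks, List.sum_cons, ← add_smul]
    congr 1
    simp
    ring

theorem evalV_sum_col (t u : F) : ∀ qs : List (ℕ × ℕ × ℤ),
    evalV D t u (qs.flatMap fun q =>
      (List.range (q.2.1 + 1)).map fun k =>
        (⟨q.1, k, q.2.1 - k, q.2.2 * Int.ofNat (Nat.choose q.2.1 k)⟩ : Term)) = evalCol D (t + u) qs
  | [] => rfl
  | q :: qs => by
    rw [List.flatMap_cons, evalV_append, evalV_sum_col t u qs, evalV_binom, evalCol_cons, add_pow]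
    congr 3

include hv in
theorem x_add_of_checkAdd {r : ℕ} (h : T.checkAdd r = true) (t u : F) :
    D.x F r t * D.x F r u = D.x F r (t + u) := by
  simp only [checkAdd, Bool.and_eq_true, List.all_eq_true, Nat.blt_eq, List.mem_range] at h
  refine ext_unitFun fun c hc => ?_
  have := evalV_eq_of_sameVec (D := D) t u (h.2 c (by rw [rowsN, hv.hn, hv.hl]; exact hc))
  rw [evalV_applyW hv t u _ (by simp [h.1]), evalV_unitVec, sumTerms, evalV_cons, evalV_sum_col] at this
  rw [hv.x_mulVec_unitFun h.1]
  simpa [evalW, Letter.param, ChevalleyDatum.wordMat] using this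

end Data

end CfsgLib.Chev
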