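import Cfsg.Agent.Lib.Chev.Engine

/-!
Soundness of the validation of the fast tables: they agree with the datum.
-/

set_option autoImplicit false

namespace CfsgLib.Chev

open Cfsg.Lie

theorem bit_eq_testBit (m s : ℕ) : bit m s = m.testBit s := by
  rw [Bool.eq_iff_iff]
  simp only [bit, Nat.beq_eq, Nat.testBit_eq_decide_div_mod_eq, decide_eq_true_eq]
  rw [← Nat.shiftRight_eq_div_pow]
  rfl

@[simp] theorem allL_nil {α : Type} (f : α → Bool) : allL f [] = true := rfl

@[simp] theorem allL_cons {α : Type} (f : α → Bool) (a : α) (l : List α) :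
    allL f (a :: l) = (f a && allL f l) := rfl

theorem allL_iff {α : Type} {f : α → Bool} {l : List α} : allL f l = true ↔ ∀ a ∈ l, f a = true := by
  induction l with
  | nil => simp
  | cons a l ih => simp [ih]

theorem bit_baseMask {l : List ℕ} {s : ℕ} : bit (Data.baseMask l) s = true ↔ s ∈ l := by
  rw [bit_eq_testBit]
  induction l with
  | nil => simp [Data.baseMask]
  | cons a l ih =>
    have : Data.baseMask (a :: l) = 2 ^ a ||| Data.baseMask l := rfl
    rw [this, Nat.testBit_or, Nat.testBit_two_pow, Bool.or_eq_true, ih]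
    simp [eq_comm]

theorem sortedFrom_lb : ∀ {lb : ℕ} {l : List ℕ}, sortedFrom lb l = true → ∀ s ∈ l, lb ≤ s
  | _, [], _ => by simp
  | lb, a :: l, h => by
    simp only [sortedFrom, Bool.and_eq_true, Nat.ble_eq] at h
    intro s hs
    rcases List.mem_cons.1 hs with rfl | hs
    · exact h.1
    · have := sortedFrom_lb h.2 s hs
      omega

theorem sortedFrom_nodup : ∀ {lb : ℕ} {l : List ℕ}, sortedFrom lb l = true → l.Nodup
  | _, [], _ => List.nodup_nil
  | lb, a :: l, h => by
    simp only [sortedFrom, Bool.and_eq_true, Nat.ble_eq] at h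
    refine List.nodup_cons.2 ⟨fun hm => ?_, sortedFrom_nodup h.2⟩
    have := sortedFrom_lb h.2 a hm
    omega

theorem nib_range {M : ℤ} (h : 0 < nib M) : nib M < 16 ∧ (nib M : ℤ) - 8 = M := by
  cases M with
  | ofNat m =>
    simp only [nib] at h ⊢
    by_cases hm : m < 8
    · simp [show Nat.blt m 8 = true by simp [Nat.blt_eq, hm]] at h ⊢
      omega
    · simp [show Nat.blt m 8 = false by simp [Bool.eq_false_iff, Nat.blt_eq, hm]] at h
  | negSucc m =>
    simp only [nib] at h ⊢
    by_cases hm : m < 7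
    · simp [show Nat.blt m 7 = true by simp [Nat.blt_eq, hm]] at h ⊢
      omega
    · simp [show Nat.blt m 7 = false by simp [Bool.eq_false_iff, Nat.blt_eq, hm]] at h

theorem decode_of_matchEnt : ∀ {K : ℕ} {l : List (ℕ × ℤ)} {f : ℕ},
    matchEnt K l f = true → decode K f = l
  | 0, [], _, _ => rfl
  | 0, _ :: _, _, h => by simp [matchEnt] at h
  | k + 1, [], f, h => by
    simp only [matchEnt] at h
    simp [decode, h]
  | k + 1, (u, M) :: es, f, h => by
    simp only [matchEnt, Bool.and_eq_true, Nat.beq_eq, Nat.blt_eq] at h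
    obtain ⟨⟨⟨hM, _⟩, hf⟩, hrest⟩ := h
    obtain ⟨hlt, hval⟩ := nib_range hM
    simp only [decode]
    have h0 : Nat.beq (Nat.mod f 4096) 0 = false := by
      rw [Bool.eq_false_iff, ne_eq, Nat.beq_eq, hf]; omega
    rw [h0, cond_false, decode_of_matchEnt hrest]
    have hf' : f % 4096 = u * 16 + nib M := hf
    have e2 : f % 16 = nib M := by omega
    have e1 : f % 4096 / 16 = u := by omega
    show (f % 4096 / 16, Int.ofNat (f % 16) - 8) :: es = _
    rw [e1, e2]
    have e3 : Int.ofNat (nib M) - 8 = M := hval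
    rw [e3]

theorem length_decode : ∀ K f : ℕ, (decode K f).length ≤ K
  | 0, _ => le_rfl
  | k + 1, f => by
    simp only [decode]
    cases Nat.beq (Nat.mod f 4096) 0
    · simpa using length_decode k _
    · simp

theorem getD_toList {α : Type} (a : Array α) (i : ℕ) (d : α) : a.getD i d = a.toList.getD i d := by
  simp [List.getD, Array.getElem?_toList]

theorem getD_map_toList {α : Type} (a : Array (Array α)) (r : ℕ) :
    (a.getD r #[]).toList = (a.toList.map Array.toList).getD r [] := by
  rw [getD_toList]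
  simp [List.getD, List.getElem?_map]

theorem getD_map_range {β : Type} (n : ℕ) (f : ℕ → β) (d : β) {i : ℕ} (h : i < n) :
    ((List.range n).map f).getD i d = f i := by
  simp [List.getD, h]

namespace Data

variable {T : Data}

theorem matchRow_map {R : Row} : ∀ {es : List (ℕ × Array (ℕ × ℤ))} {ss : List ℕ},
    T.matchRow R es ss = true →
      es.map (fun e => (e.1, e.2.toList)) = ss.map (fun s => (s, decode T.K (T.field R s)))
  | [], [], _ => rfl
  | [], _ :: _, h => by simp [matchRow] at h
  | _ :: _, [], h => by simp [matchRow] at h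
  | e :: es, s :: ss, h => by
    simp only [matchRow, Bool.and_eq_true, Nat.beq_eq] at h
    simp [h.1.1, decode_of_matchEnt h.1.2, matchRow_map h.2]

theorem find_map {g : ℕ → List (ℕ × ℤ)} {s : ℕ} : ∀ {es : List (ℕ × Array (ℕ × ℤ))} {ss : List ℕ},
    es.map (fun e => (e.1, e.2.toList)) = ss.map (fun s => (s, g s)) →
      ((es.find? (fun e => decide (e.1 = s))).map fun e => e.2.toList).getD [] =
        if s ∈ ss then g s else []
  | [], [], _ => by simp
  | [], _ :: _, h => by simp at h
  | _ :: _, [], h => by simp at h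
  | e :: es, a :: ss, h => by
    simp only [List.map_cons, List.cons.injEq, Prod.mk.injEq] at h
    by_cases hs : e.1 = s
    · subst hs
      simp [h.1.1, h.1.2]
    · have hsa : s ≠ a := fun h' => hs (h.1.1.trans h'.symm)
      rw [List.find?_cons_of_neg (by simpa using hs), find_map h.2]
      simp [hsa]

/-- Facts guaranteed by `Data.valid`. -/
structure Valid (T : Data) (D : ChevalleyDatum) : Prop where
  hn : T.n = D.nroots
  hl : T.l = D.rank
  le256 : T.n + T.l ≤ 256
  neg_eq : ∀ r < T.n, (T.row r).neg = D.neg r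
  neg_lt : ∀ r < T.n, (T.row r).neg < T.n
  neg_ne : ∀ r < T.n, (T.row r).neg ≠ r
  cor_eq : ∀ r < T.n, ∀ j, (D.coroot.getD r #[]).getD j 0 = (T.row r).cor.getD j 0
  cor_len : ∀ r < T.n, (T.row r).cor.length = T.l
  car_eq : ∀ r < T.n, ∀ j < T.l, D.cartan j r = (T.row r).car.getD j 0
  car_len : ∀ r < T.n, (T.row r).car.length = T.l
  simple_eq : ∀ i, D.simple i = T.simp' i
  simple_lt : ∀ i < T.l, T.simp' i < T.n
  moved_iff : ∀ r < T.n, ∀ s, bit (T.row r).mask s = true ↔ s ∈ (T.row r).moved
  moved_nodup : ∀ r < T.n, (T.row r).moved.Nodup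
  moved_lt : ∀ r < T.n, ∀ s ∈ (T.row r).moved,
    s < T.n ∧ s ≠ r ∧ s ≠ (T.row r).neg ∧ r ∈ (T.row s).moved
  row_eq : ∀ r < T.n, (D.chain.getD r #[]).toList.map (fun e => (e.1, e.2.toList)) =
    (T.row r).moved.map (fun s => (s, T.ent r s))
  ent_eq : ∀ r < T.n, ∀ s, D.chainEntry r s = T.ent r s
  ent_lt : ∀ r < T.n, ∀ s, ∀ q ∈ T.ent r s, q.1 < T.n

theorem validRows_spec : ∀ {rows : List (Array (ℕ × Array (ℕ × ℤ)))} {r : ℕ},
    T.validRows rows r = true → T.n = r + rows.length ∧ ∀ (k : ℕ) (hk : k < rows.length),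
      T.matchRow (T.row (r + k)) (rows[k]).toList (T.row (r + k)).moved = true ∧
      T.validMoved (T.row (r + k)) (r + k) = true ∧
      (∀ e ∈ (rows[k]).toList, ∀ q ∈ e.2.toList, q.1 < T.n) ∧
      (T.row (r + k)).neg < T.n ∧ (T.row (r + k)).neg ≠ r + k ∧
      (T.row (r + k)).cor.length = T.l ∧ (T.row (r + k)).car.length = T.l
  | [], r, h => by
    simp only [validRows, Nat.beq_eq] at h
    simp [h]
  | row :: rows, r, h => by
    simp only [validRows, Bool.and_eq_true, Nat.beq_eq, allL_iff, Nat.blt_eq, Bool.not_eq_true',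
      Bool.eq_false_iff, ne_eq] at h
    obtain ⟨⟨⟨⟨⟨⟨⟨h1, h2⟩, h3⟩, h4⟩, h5⟩, h6⟩, h7⟩, h8⟩ := h
    obtain ⟨hlen, hk⟩ := validRows_spec h8
    refine ⟨by simp only [List.length_cons]; omega, fun k hk' => ?_⟩
    cases k with
    | zero => exact ⟨h1, h2, h3, h4, h5, h6, h7⟩
    | succ k =>
      have := hk k (by simpa using hk')
      rw [show r + (k + 1) = r + 1 + k by omega]
      simpa using this

theorem valid_spec {D : ChevalleyDatum} (h : T.valid D = true) : T.Valid D := by
  simp only [valid, Bool.and_eq_true, Nat.beq_eq, decide_eq_true_eq, Nat.ble_eq, List.all_eq_true,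
    Nat.blt_eq] at h
  obtain ⟨⟨⟨⟨⟨⟨⟨⟨⟨hn, hl⟩, h256⟩, hneg⟩, hcor⟩, hcar⟩, hsimp⟩, hsl⟩, hslt⟩, hrows⟩ := h
  obtain ⟨hlen, hk⟩ := validRows_spec hrows
  have hrow : ∀ r < T.n, T.matchRow (T.row r) (D.chain.getD r #[]).toList (T.row r).moved = true ∧
      T.validMoved (T.row r) r = true ∧
      (∀ e ∈ (D.chain.getD r #[]).toList, ∀ q ∈ e.2.toList, q.1 < T.n) ∧
      (T.row r).neg < T.n ∧ (T.row r).neg ≠ r ∧
      (T.row r).cor.length = T.l ∧ (T.row r).car.length = T.l := by
    intro r hr
    have hr' : r < D.chain.toList.length := by omega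
    have := hk r hr'
    rw [Nat.zero_add] at this
    have e : D.chain.getD r #[] = D.chain.toList[r] := by
      rw [getD_toList, List.getD_eq_getElem _ _ hr']
    rw [e]
    exact this
  have hmoved : ∀ r < T.n, (sortedFrom 0 (T.row r).moved = true ∧
      (∀ s, bit (T.row r).mask s = true ↔ s ∈ (T.row r).moved)) ∧
      ∀ s ∈ (T.row r).moved, s < T.n ∧ s ≠ r ∧ s ≠ (T.row r).neg ∧ bit (T.row s).mask r = true := by
    intro r hr
    have := (hrow r hr).2.1
    simp only [validMoved, Bool.and_eq_true, Nat.beq_eq, allL_iff, Nat.blt_eq, Bool.not_eq_true',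
      Bool.eq_false_iff, ne_eq] at this
    refine ⟨⟨this.1.1, fun s => ?_⟩, fun s hs => ?_⟩
    · rw [this.1.2]
      exact bit_baseMask
    · obtain ⟨⟨⟨a, b⟩, c⟩, d⟩ := this.2 s hs
      exact ⟨a, b, c, d⟩
  have hrow_eq : ∀ r < T.n, (D.chain.getD r #[]).toList.map (fun e => (e.1, e.2.toList)) =
      (T.row r).moved.map (fun s => (s, T.ent r s)) := by
    intro r hr
    rw [matchRow_map (hrow r hr).1]
    refine List.map_congr_left fun s hs => ?_
    have : bit (T.row r).mask s = true := ((hmoved r hr).1.2 s).2 hs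
    simp [ent, entR, this]
  have hent : ∀ r < T.n, ∀ s, D.chainEntry r s = T.ent r s := by
    intro r hr s
    have hm : D.chainEntry r s =
        (((D.chain.getD r #[]).toList.find? fun e => decide (e.1 = s)).map fun e => e.2.toList).getD [] := by
      unfold ChevalleyDatum.chainEntry
      cases (D.chain.getD r #[]).toList.find? fun e => decide (e.1 = s) <;> rfl
    rw [hm, find_map (hrow_eq r hr)]
    split
    · rfl
    · rename_i hs
      have : bit (T.row r).mask s = false :=
        Bool.eq_false_iff.2 fun h => hs (((hmoved r hr).1.2 s).1 h)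
      simp [ent, entR, this]
  refine
    { hn := hn
      hl := hl
      le256 := h256
      neg_eq := fun r hr => ?_
      neg_lt := fun r hr => (hrow r hr).2.2.2.1
      neg_ne := fun r hr => (hrow r hr).2.2.2.2.1
      cor_eq := fun r hr j => ?_
      cor_len := fun r hr => (hrow r hr).2.2.2.2.2.1
      car_eq := fun r hr j hj => ?_
      car_len := fun r hr => (hrow r hr).2.2.2.2.2.2
      simple_eq := fun i => ?_
      simple_lt := fun i hi => ?_
      moved_iff := fun r hr => (hmoved r hr).1.2
      moved_nodup := fun r hr => sortedFrom_nodup (hmoved r hr).1.1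
      moved_lt := fun r hr s hs => ?_
      row_eq := hrow_eq
      ent_eq := hent
      ent_lt := fun r hr s q hq => ?_ }
  · rw [ChevalleyDatum.neg, getD_toList, hneg, getD_map_range _ _ _ hr]
  · rw [getD_toList, getD_map_toList, hcor, getD_map_range _ _ _ hr]
  · rw [ChevalleyDatum.cartan, getD_toList, getD_map_toList, hcar, getD_map_range _ _ _ hj,
      getD_map_range _ _ _ hr]
  · rw [ChevalleyDatum.simple, getD_toList, hsimp]
    rfl
  · have hi' : i < T.simples.length := by omega
    rw [simp', List.getD_eq_getElem _ _ hi']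
    exact hslt _ (List.getElem_mem hi')
  · obtain ⟨a, b, c, d⟩ := (hmoved r hr).2 s hs
    exact ⟨a, b, c, ((hmoved s a).1.2 r).1 d⟩
  · rw [← hent r hr s] at hq
    unfold ChevalleyDatum.chainEntry at hq
    split at hq
    · simp at hq
    · rename_i e he
      exact (hrow r hr).2.2.1 e (List.mem_of_find?_eq_some he) q hq

variable {D : ChevalleyDatum} (hv : T.Valid D)

include hv in
theorem Valid.ent_empty {r s : ℕ} (hr : r < T.n) (hs : s ∉ (T.row r).moved) : T.ent r s = [] := by
  have : bit (T.row r).mask s = false := Bool.eq_false_iff.2 fun h => hs ((hv.moved_iff r hr s).1 h)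
  simp [ent, entR, this]

include hv in
theorem Valid.moved_symm {r s : ℕ} (hr : r < T.n) (hs : s < T.n) :
    s ∈ (T.row r).moved ↔ r ∈ (T.row s).moved :=
  ⟨fun h => (hv.moved_lt r hr s h).2.2.2, fun h => (hv.moved_lt s hs r h).2.2.2⟩

theorem ent_length (r s : ℕ) : (T.ent r s).length ≤ T.K := by
  unfold ent entR
  cases bit (T.row r).mask s
  · simp
  · exact length_decode _ _

include hv in
theorem Valid.chainRoot_eq {r : ℕ} (hr : r < T.n) (s k : ℕ) : D.chainRoot r s k = T.fastRoot r s k := by
  simp [ChevalleyDatum.chainRoot, fastRoot, hv.ent_eq r hr]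

include hv in
theorem Valid.chainM_eq {r : ℕ} (hr : r < T.n) (s k : ℕ) : D.chainM r s k = T.fastM r s k := by
  simp [ChevalleyDatum.chainM, fastM, hv.ent_eq r hr]

include hv in
theorem Valid.fastRoot_lt {r : ℕ} (hr : r < T.n) {s k u : ℕ} (h : T.fastRoot r s k = some u) :
    u < T.n := by
  simp only [fastRoot, Option.map_eq_some_iff] at h
  obtain ⟨q, hq, rfl⟩ := h
  exact hv.ent_lt r hr s q (List.mem_of_getElem? hq)

include hv in
theorem Valid.commTerms_eq {r s : ℕ} (hr : r < T.n) (hs : s < T.n) :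
    D.commTerms r s = T.commFast r s := by
  have e6 : ((T.fastRoot r s 3).bind fun k => D.chainRoot k s 1) =
      (T.fastRoot r s 3).bind fun k => T.fastRoot k s 1 := by
    cases h : T.fastRoot r s 3 with
    | none => rfl
    | some k => exact hv.chainRoot_eq (hv.fastRoot_lt hr h) _ _
  have e7 : ((T.fastRoot s r 3).bind fun k => D.chainRoot k r 1) =
      (T.fastRoot s r 3).bind fun k => T.fastRoot k r 1 := by
    cases h : T.fastRoot s r 3 with
    | none => rfl
    | some k => exact hv.chainRoot_eq (hv.fastRoot_lt hs h) _ _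
  have e8 : ((T.fastRoot r s 1).map fun k => D.chainM k r 2 / 3) =
      (T.fastRoot r s 1).map fun k => T.fastM k r 2 / 3 := by
    cases h : T.fastRoot r s 1 with
    | none => rfl
    | some k => simp [hv.chainM_eq (hv.fastRoot_lt hr h)]
  have e9 : ((T.fastRoot r s 1).map fun k => -2 * D.chainM k s 2 / 3) =
      (T.fastRoot r s 1).map fun k => -2 * T.fastM k s 2 / 3 := by
    cases h : T.fastRoot r s 1 with
    | none => rfl
    | some k => simp [hv.chainM_eq (hv.fastRoot_lt hr h)]
  simp only [ChevalleyDatum.commTerms, commFast, hv.chainRoot_eq hr, hv.chainRoot_eq hs,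
    hv.chainM_eq hr, hv.chainM_eq hs, e6, e7, e8, e9]

include hv in
theorem Valid.reflectRoot_eq {i : ℕ} (hi : i < T.l) {s : ℕ} (hs : s < T.n) :
    D.reflectRoot i s = T.fastReflect i s := by
  have hp := hv.simple_lt i hi
  simp only [ChevalleyDatum.reflectRoot, fastReflect, hv.simple_eq, hv.neg_eq _ hp,
    hv.car_eq s hs i hi]
  rw [← hv.neg_eq _ hp, hv.chainRoot_eq (hv.neg_lt _ hp), hv.chainRoot_eq hp]

end Data

end CfsgLib.Chev
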