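import Cfsg.Agent.Lib.Chev.Api

/-!
For a fundamental root `p`: `h_p(t) = diag(1, …, 1; t^{A_{p s}})` and `n_p(t) = h_p(t) n_p(1)`,
checked by the evaluator with `u = t⁻¹`.
-/

set_option autoImplicit false

namespace CfsgLib.Chev

open Cfsg.Lie Matrix

/-- Cancel `t^k u^k`. -/
def reduceTU (V : List Term) : List Term :=
  V.map fun e => bif Nat.blt e.a e.b then ⟨e.row, 0, e.b - e.a, e.c⟩ else ⟨e.row, e.a - e.b, 0, e.c⟩

namespace Data

/-- The diagonal matrix `diag(1, …; t^{A_{p s}})` applied to a term. -/
def diagTerm (T : Data) (i : ℕ) (e : Term) : Term :=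
  bif Nat.blt e.row T.n then
    ⟨e.row, e.a + ((T.row e.row).car.getD i 0).toNat, e.b + (-((T.row e.row).car.getD i 0)).toNat, e.c⟩
  else e

def ntWordL (T : Data) (i : ℕ) : List Letter :=
  [⟨T.simp' i, 1, 1, 0⟩, ⟨(T.row (T.simp' i)).neg, -1, 0, 1⟩, ⟨T.simp' i, 1, 1, 0⟩]

def checkTorus (T : Data) (i : ℕ) : Bool :=
  (List.range T.rowsN).all fun c =>
    sameVec (reduceTU (T.applyW (T.ntWordL i) (unitVec c))) (reduceTU ((T.pVec i c).map (T.diagTerm i)))

end Data

set_option maxRecDepth 100000

namespace G2
theorem checkTorus : ((List.range 2).all data.checkTorus) = true := by decide +kernel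
end G2
namespace B2
theorem checkTorus : ((List.range 2).all data.checkTorus) = true := by decide +kernel
end B2
namespace D4
theorem checkTorus : ((List.range 4).all data.checkTorus) = true := by decide +kernel
end D4
namespace F4
theorem checkTorus : ((List.range 4).all data.checkTorus) = true := by decide +kernel
end F4
namespace E6
theorem checkTorus : ((List.range 6).all data.checkTorus) = true := by decide +kernel
end E6
namespace E7
theorem checkTorus : ((List.range 7).all data.checkTorus) = true := by decide +kernel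
end E7
namespace E8
theorem checkTorus : ((List.range 8).all data.checkTorus) = true := by decide +kernel
end E8

theorem exists_cert_torus {D : ChevalleyDatum} (hD : D ∈ tabulated) :
    ∃ C : Cert D, ∀ i < C.T.l, C.T.checkTorus i = true := by
  simp only [tabulated, List.mem_cons, List.not_mem_nil, or_false] at hD
  rcases hD with rfl | rfl | rfl | rfl | rfl | rfl | rfl
  exacts [⟨G2.cert, range_all_spec G2.checkTorus⟩, ⟨B2.cert, range_all_spec B2.checkTorus⟩,
    ⟨D4.cert, range_all_spec D4.checkTorus⟩, ⟨F4.cert, range_all_spec F4.checkTorus⟩,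
    ⟨E6.cert, range_all_spec E6.checkTorus⟩, ⟨E7.cert, range_all_spec E7.checkTorus⟩,
    ⟨E8.cert, range_all_spec E8.checkTorus⟩]

variable {D : ChevalleyDatum} {F : Type*} [Field F]

theorem evalV_reduceTU {t u : F} (h : t * u = 1) : ∀ V : List Term,
    evalV D t u (reduceTU V) = evalV D t u V
  | [] => rfl
  | e :: V => by
    have ih := evalV_reduceTU h V
    simp only [reduceTU, List.map_cons] at ih ⊢
    rw [evalV_cons, evalV_cons, ih]
    have key : ∀ k m : ℕ, t ^ k * t ^ m * u ^ m = t ^ k ∧ t ^ m * (u ^ m * u ^ k) = u ^ k := by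
      intro k m
      constructor
      · rw [mul_assoc, ← mul_pow, h, one_pow, mul_one]
      · rw [← mul_assoc, ← mul_pow, h, one_pow, one_mul]
    by_cases hab : e.a < e.b
    · have : Nat.blt e.a e.b = true := by rwa [Nat.blt_eq]
      simp only [this, cond_true, pow_zero, mul_one]
      have h2 := (key (e.b - e.a) e.a).2
      rw [← pow_add, show e.a + (e.b - e.a) = e.b by omega] at h2
      rw [mul_assoc, h2]
    · have : Nat.blt e.a e.b = false := by rw [Bool.eq_false_iff, ne_eq, Nat.blt_eq]; exact hab
      simp only [this, cond_false, pow_zero, mul_one]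
      have h2 := (key (e.a - e.b) e.b).1
      rw [← pow_add, show e.a - e.b + e.b = e.a by omega] at h2
      rw [mul_assoc (e.c : F) (t ^ e.a), h2]

/-- The exponents of `h_p(t)` on the basis. -/
noncomputable def torusDiag (D : ChevalleyDatum) {F : Type*} [Field F] (i : ℕ) (t : F) :
    Matrix D.Idx D.Idx F :=
  Matrix.diagonal (Sum.elim (fun _ => 1) (fun s => t ^ D.cartan i s.val))

theorem evalV_diagTerm {T : Data} (hv : T.Valid D) {i : ℕ} (hi : i < T.l) {t : F} (ht : t ≠ 0) :
    ∀ V : List Term, evalV D t t⁻¹ (V.map (T.diagTerm i)) = torusDiag D i t *ᵥ evalV D t t⁻¹ V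
  | [] => by simp
  | e :: V => by
    rw [List.map_cons, evalV_cons, evalV_cons, evalV_diagTerm hv hi ht V, Matrix.mulVec_add,
      Matrix.mulVec_smul]
    congr 1
    funext j
    simp only [torusDiag, Matrix.mulVec_diagonal, Pi.smul_apply, smul_eq_mul, unitFun, Data.diagTerm]
    by_cases he : e.row < T.n
    · have : Nat.blt e.row T.n = true := by rwa [Nat.blt_eq]
      simp only [this, cond_true, ← hv.car_eq _ he i hi]
      by_cases hj : idxCode D j = e.row
      · rcases j with j | s
        · have := hv.hn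
          simp only [idxCode_inl] at hj
          omega
        · simp only [idxCode_inr] at hj ⊢
          simp only [hj, if_true, mul_one, Sum.elim_inr]
          have key : ∀ (A : ℤ), t ^ A.toNat * (t⁻¹) ^ (-A).toNat = t ^ A := by
            intro A
            rw [inv_pow, ← zpow_natCast t A.toNat, ← zpow_natCast t (-A).toNat, ← _root_.zpow_neg,
              ← zpow_add₀ ht]
            congr 1
            omega
          rw [pow_add, pow_add, ← key]
          ring
      · simp [hj]
    · have : Nat.blt e.row T.n = false := by rw [Bool.eq_false_iff, ne_eq, Nat.blt_eq]; exact he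
      simp only [this, cond_false]
      by_cases hj : idxCode D j = e.row
      · rcases j with j | s
        · simp
        · have := hv.hn
          have := s.isLt
          simp only [idxCode_inr] at hj
          omega
      · simp [hj]

theorem nMat_simple (hD : D ∈ tabulated) {i : ℕ} (hi : i < D.rank) {t : F} (ht : t ≠ 0) :
    D.nMat F (D.simple i) t = torusDiag D i t * D.nMat F (D.simple i) 1 := by
  obtain ⟨C, hC⟩ := exists_cert_torus hD
  have hv := C.hv
  have hi' : i < C.T.l := hv.hl ▸ hi
  have hp := hv.simple_lt i hi'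
  have h := hC i hi'
  simp only [Data.checkTorus, List.all_eq_true, List.mem_range] at h
  have htu : t * t⁻¹ = 1 := mul_inv_cancel₀ ht
  have hlt : ∀ L ∈ C.T.ntWordL i, L.r < C.T.n := by
    intro L hL
    simp only [Data.ntWordL, List.mem_cons, List.not_mem_nil, or_false] at hL
    rcases hL with rfl | rfl | rfl <;> first | exact hp | exact hv.neg_lt _ hp
  refine ext_unitFun fun c hc => ?_
  have h1 := evalV_eq_of_sameVec (D := D) t t⁻¹ (h c (by rw [Data.rowsN, hv.hn, hv.hl]; exact hc))
  rw [evalV_reduceTU htu, evalV_reduceTU htu, Data.evalV_applyW hv t t⁻¹ _ hlt,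
    evalV_diagTerm hv hi' ht, evalV_unitVec,
    ← Data.nMat_mulVec_unitFun hv hi' (C.checkN i hi') t t⁻¹, Matrix.mulVec_mulVec] at h1
  rw [← h1]
  simp [ChevalleyDatum.nMat, ChevalleyDatum.nWord, evalW, Data.ntWordL, Letter.param, hv.simple_eq,
    hv.neg_eq _ hp]

/-- `h_p(t) = diag(1, …, 1; t^{A_{p s}})` (S1033). -/
theorem hMat_simple (hD : D ∈ tabulated) {i : ℕ} (hi : i < D.rank) {t : F} (ht : t ≠ 0) :
    D.hMat F (D.simple i) t = torusDiag D i t := by
  obtain ⟨C⟩ := exists_cert hD
  have hv := C.hv
  have hp := hv.simple_lt i (hv.hl ▸ hi)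
  have hsplit : D.hMat F (D.simple i) t = D.nMat F (D.simple i) t * D.nMat F (D.simple i) (-1) := by
    simp [ChevalleyDatum.hMat, ChevalleyDatum.hWord, ChevalleyDatum.nMat, ChevalleyDatum.wordMat]
  have hone : D.nMat F (D.simple i) (1 : F) * D.nMat F (D.simple i) (-1) = 1 := by
    have e1 : D.x F (D.simple i) (1 : F) * D.x F (D.simple i) (-1) = 1 :=
      C.x_mul_x_neg (hv.simple_eq i ▸ hp) 1
    have e2 : D.x F (D.neg (D.simple i)) (-1 : F) * D.x F (D.neg (D.simple i)) 1 = 1 := by
      have := C.x_mul_x_neg (hv.neg_lt _ hp) (-1 : F)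
      rw [neg_neg, hv.neg_eq _ hp] at this
      rwa [hv.simple_eq]
    simp only [ChevalleyDatum.nMat, ChevalleyDatum.nWord, ChevalleyDatum.wordMat, List.map_cons,
      List.map_nil, List.prod_cons, List.prod_nil, mul_one, inv_neg, inv_one, neg_neg]
    calc D.x F (D.simple i) (1 : F) * (D.x F (D.neg (D.simple i)) (-1) * D.x F (D.simple i) 1) *
          (D.x F (D.simple i) (-1) * (D.x F (D.neg (D.simple i)) 1 * D.x F (D.simple i) (-1)))
        = D.x F (D.simple i) (1 : F) * (D.x F (D.neg (D.simple i)) (-1) *
            (D.x F (D.simple i) 1 * D.x F (D.simple i) (-1)) * D.x F (D.neg (D.simple i)) 1) *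
            D.x F (D.simple i) (-1) := by simp only [mul_assoc]
      _ = 1 := by rw [e1, mul_one, e2, mul_one, e1]
  rw [hsplit, nMat_simple hD hi ht, mul_assoc, hone, mul_one]

end CfsgLib.Chev
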